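import Mathlib
import Cfsg.Agent.OddCyclic.EmpNFF

/-!
# (Empty), section 3.1/3.2: the configuration

`S` a Sylow 2-subgroup, `V = vv S`, `L = LL S = N_G(V)`, (NFF): `|A/C_A(V)| < |V/C_V(A)|` for `A ≤ L` elementary
abelian modulo `C_G(V)`, `A ≰ C_G(V)` (`EmpFrame.NFF`).

* `Conf S R T`: `R = V ⊓ V^g ≠ 1`, `[V, V^g] ≠ 1`, `|R|` maximal; `J ≤ T ∈ Syl₂(C_L(R))`;
* `exists_conf`: it exists if (*) fails;
* `Conf.syl'`: `T ∈ Syl₂(C_G(R))`; `Conf.not_le_o2` (3.0): `V ≰ O₂(C_G(R))`;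
* `Par S R T P`: `T ≤ P ≤ C_G(R)`, `V ≰ O₂(P)`: `o2_le`, `cent`, `R_le_o2`, `o2_normalizes`.
-/

set_option autoImplicit false
set_option linter.unusedSectionVars false

namespace Cfsg.Agent.OddCyclic.EmpA

open Subgroup Cfsg Cfsg.Agent.ZN Cfsg.Agent.ZN.ChoiceBase Cfsg.Agent.ZN.ChoiceSit
open Cfsg.Agent.MinSimple Cfsg.Agent.MinSimple.EmptyTI Cfsg.Agent.MinSimple.EmptySix
open Cfsg.Agent.MinSimple.EmptyE.Closed (LL vv_comm vv_sq vv_mul_self vv_inv
  isPGroup_vv vv_le_jj vv_le jj_le_centralizer_vv conj_mem_vv cj_vv)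
open Cfsg.Agent.OddCyclic.EmpFrame

universe u

variable {G : Type u} [Group G]

variable [Finite G] {S : Sylow 2 G} {R T P : Subgroup G}

/-- noncommuting lines with a maximal nontrivial intersection -/
structure Conf (S : Sylow 2 G) (R T : Subgroup G) : Prop where
  ens : ENS S
  nff : NFF (vv (S : Subgroup G))
  ne : R ≠ ⊥
  ex : ∃ g : G, R = vv (S : Subgroup G) ⊓ cj g (vv (S : Subgroup G)) ∧
    ¬ cj g (vv (S : Subgroup G)) ≤ centralizer (vv (S : Subgroup G) : Set G)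
  max : ∀ g : G, ¬ cj g (vv (S : Subgroup G)) ≤ centralizer (vv (S : Subgroup G) : Set G) →
    Nat.card (vv (S : Subgroup G) ⊓ cj g (vv (S : Subgroup G)) : Subgroup G) ≤ Nat.card R
  jT : jj (S : Subgroup G) ≤ T
  syl : Syl T (LL (S : Subgroup G) ⊓ centralizer (R : Set G))

/-- (*): lines with a common point commute -/
def Star (S : Subgroup G) : Prop :=
  ∀ g : G, vv S ⊓ cj g (vv S) ≠ ⊥ → cj g (vv S) ≤ centralizer (vv S : Set G)

theorem exists_conf (h : ENS S) (hN : NFF (vv (S : Subgroup G))) (hS : ¬ Star (S : Subgroup G)) :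
    ∃ R T, Conf S R T := by
  obtain ⟨g, hg, hgc⟩ : ∃ g : G, vv (S : Subgroup G) ⊓ cj g (vv (S : Subgroup G)) ≠ ⊥ ∧
      ¬ cj g (vv (S : Subgroup G)) ≤ centralizer (vv (S : Subgroup G) : Set G) := by
    by_contra hcon
    push Not at hcon
    exact hS hcon
  obtain ⟨m, hm, hmax⟩ := Set.exists_max_image
    {g : G | ¬ cj g (vv (S : Subgroup G)) ≤ centralizer (vv (S : Subgroup G) : Set G)}
    (fun g => Nat.card (vv (S : Subgroup G) ⊓ cj g (vv (S : Subgroup G)) : Subgroup G)) (Set.toFinite _) ⟨g, hgc⟩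
  obtain ⟨R, hR⟩ : ∃ R : Subgroup G, R = vv (S : Subgroup G) ⊓ cj m (vv (S : Subgroup G)) := ⟨_, rfl⟩
  have hRV : R ≤ vv (S : Subgroup G) := hR ▸ inf_le_left
  have hRz : R ≤ zj (S : Subgroup G) := hRV.trans (vv_le_zj _)
  have hJR : jj (S : Subgroup G) ≤ LL (S : Subgroup G) ⊓ centralizer (R : Set G) :=
    le_inf ((ChoiceBase.jj_le _).trans h.le_LL) (jj_le_centralizer_of_le hRz)
  obtain ⟨T, hT, hJT⟩ := exists_syl (S.isPGroup'.to_le (ChoiceBase.jj_le _)) hJR
  refine ⟨R, T, h, hN, ?_, ⟨m, hR, hm⟩, ?_, hJT, hT⟩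
  · intro h0
    have h1 := hmax g hgc
    rw [← hR, h0, card_bot] at h1
    exact hg (Subgroup.eq_bot_of_card_le _ h1)
  · intro k hk
    rw [hR]
    exact hmax k hk

namespace Conf

variable (c : Conf S R T)
include c

theorem R_le_vv : R ≤ vv (S : Subgroup G) := by
  obtain ⟨g, h, -⟩ := c.ex
  exact h ▸ inf_le_left

theorem R_le_zj : R ≤ zj (S : Subgroup G) := c.R_le_vv.trans (vv_le_zj _)

theorem vv_le_T : vv (S : Subgroup G) ≤ T := vv_le_jj.trans c.jT

theorem R_le_T : R ≤ T := c.R_le_vv.trans c.vv_le_T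

theorem T_le_LL : T ≤ LL (S : Subgroup G) := c.syl.1.trans inf_le_left

theorem T_le_cent : T ≤ centralizer (R : Set G) := c.syl.1.trans inf_le_right

theorem R_comm {x r : G} (hx : x ∈ centralizer (R : Set G)) (hr : r ∈ R) : x * r = r * x :=
  (mem_centralizer_iff.1 hx r hr).symm

theorem syl' : Syl T (centralizer (R : Set G)) := by
  refine ⟨c.T_le_cent, c.syl.2.1, fun Q hQ hQ2 hTQ => c.syl.2.2 Q (le_inf ?_ hQ) hQ2 hTQ⟩
  exact (EmptyTI.le_normalizer_jj S hQ2 (c.jT.trans hTQ)).trans (normalizer_jj_le_vv _)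

theorem o2_le : o2 (centralizer (R : Set G)) ≤ T := by
  have hf : Fact (Nat.Prime 2) := ⟨Nat.prime_two⟩
  have h1 : IsPGroup 2 (T ⊔ o2 (centralizer (R : Set G)) : Subgroup G) :=
    c.syl.2.1.to_sup_of_normal_right' (Block.o2_isPGroup _)
      (c.T_le_cent.trans (Block.le_normalizer_o2 _))
  have h2 := c.syl'.2.2 _ (sup_le c.T_le_cent (ChoiceSit.o2_le _)) h1 le_sup_left
  exact le_sup_right.trans h2.le

theorem max' {a b : G} (h : ¬ cj b (vv (S : Subgroup G)) ≤ centralizer ((cj a (vv (S : Subgroup G)) : Subgroup G) : Set G)) :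
    Nat.card (cj a (vv (S : Subgroup G)) ⊓ cj b (vv (S : Subgroup G)) : Subgroup G) ≤ Nat.card R := by
  have h1 := c.max (a⁻¹ * b) (fun h2 => h (by
    have h3 := cj_mono a h2
    rwa [cj_cj, mul_inv_cancel_left, cj_centralizer] at h3))
  rwa [← cj_cj, ← card_cj a, cj_inf, cj_cj_inv] at h1

/-- noncommuting lines containing `R` intersect in `R` -/
theorem inf_eq {a b : G} (h : ¬ cj b (vv (S : Subgroup G)) ≤ centralizer ((cj a (vv (S : Subgroup G)) : Subgroup G) : Set G))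
    (ha : R ≤ cj a (vv (S : Subgroup G))) (hb : R ≤ cj b (vv (S : Subgroup G))) :
    cj a (vv (S : Subgroup G)) ⊓ cj b (vv (S : Subgroup G)) = R :=
  (eq_of_le_of_card_ge (le_inf ha hb) (c.max' h)).symm

/-- (3.0) -/
theorem not_le_o2 : ¬ vv (S : Subgroup G) ≤ o2 (centralizer (R : Set G)) := by
  intro h0
  obtain ⟨g, hg, hgc⟩ := c.ex
  obtain ⟨x, hx, -, hxg⟩ := exists_conj c.R_le_vv (hg ▸ inf_le_right : R ≤ cj g (vv (S : Subgroup G)))
  have hxR : x ∈ centralizer (R : Set G) := jd_le c.R_le_zj hx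
  rw [← hxg] at hgc
  have hxo : x ∈ normalizer (o2 (centralizer (R : Set G)) : Set G) := Block.le_normalizer_o2 _ hxR
  have hL : o2 (centralizer (R : Set G)) ≤ normalizer (vv (S : Subgroup G) : Set G) := c.o2_le.trans c.T_le_LL
  have h1 := cj_mono x h0
  rw [cj_eq_of_mem_normalizer hxo] at h1
  have h2 := cj_mono x hL
  rw [cj_eq_of_mem_normalizer hxo, cj_normalizer] at h2
  exact hgc (c.nff.comm_of_le (c.nff.cj x) (fun v hv => vv_mul_self hv) (by
    rintro _ ⟨v, hv, rfl⟩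
    rw [← map_mul, vv_mul_self hv, map_one]) (h0.trans h2) (h1.trans hL))

end Conf

/-- `T ≤ P ≤ C_G(R)`, `V ≰ O₂(P)` -/
structure Par (S : Sylow 2 G) (R T P : Subgroup G) : Prop extends Conf S R T where
  le : T ≤ P
  leX : P ≤ centralizer (R : Set G)
  not : ¬ vv (S : Subgroup G) ≤ o2 P

theorem Conf.par (c : Conf S R T) : Par S R T (centralizer (R : Set G)) :=
  { c with le := c.T_le_cent, leX := le_rfl, not := c.not_le_o2 }

namespace Par

variable (p : Par S R T P)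
include p

theorem sylP : Syl T P :=
  ⟨p.le, p.syl.2.1, fun Q hQ hQ2 hTQ => p.toConf.syl'.2.2 Q (hQ.trans p.leX) hQ2 hTQ⟩

theorem vv_le : vv (S : Subgroup G) ≤ P := p.toConf.vv_le_T.trans p.le

theorem R_le : R ≤ P := p.toConf.R_le_T.trans p.le

theorem o2_le_T : o2 P ≤ T := by
  have hf : Fact (Nat.Prime 2) := ⟨Nat.prime_two⟩
  have h1 : IsPGroup 2 (T ⊔ o2 P : Subgroup G) :=
    p.syl.2.1.to_sup_of_normal_right' (Block.o2_isPGroup _) (p.le.trans (Block.le_normalizer_o2 _))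
  have h2 := p.sylP.2.2 _ (sup_le p.le (ChoiceSit.o2_le _)) h1 le_sup_left
  exact le_sup_right.trans h2.le

theorem o2_le_LL : o2 P ≤ LL (S : Subgroup G) := p.o2_le_T.trans p.toConf.T_le_LL

theorem o2X_le : o2 (centralizer (R : Set G)) ≤ o2 P :=
  Block.le_o2 (Block.o2_isPGroup _) (p.toConf.o2_le.trans p.le) (p.leX.trans (Block.le_normalizer_o2 _))

/-- `C_P(Q) ≤ Q` -/
theorem cent : P ⊓ centralizer (o2 P : Set G) ≤ o2 P := by
  refine le_trans ?_ p.o2X_le
  refine le_trans ?_ (p.ens.char2_centralizer p.toConf.R_le_zj p.ne)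
  exact inf_le_inf p.leX (centralizer_le p.o2X_le)

theorem R_le_o2 : R ≤ o2 P := by
  refine Block.le_o2 ((isPGroup_zj S.isPGroup').to_le p.toConf.R_le_zj) p.R_le ?_
  exact p.leX.trans (centralizer_le_normalizer _)

/-- elements of `P` centralise `R` -/
theorem comm {x r : G} (hx : x ∈ P) (hr : r ∈ R) : x * r = r * x := Conf.R_comm p.toConf (p.leX hx) hr

theorem cj_R {x : G} (hx : x ∈ P) : cj x R = R :=
  cj_eq_of_mem_normalizer (centralizer_le_normalizer _ (p.leX hx))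

theorem R_le_cj {x : G} (hx : x ∈ P) : R ≤ cj x (vv (S : Subgroup G)) := by
  have h1 := cj_mono x p.toConf.R_le_vv
  rwa [p.cj_R hx] at h1

theorem cj_o2 {x : G} (hx : x ∈ P) : cj x (o2 P) = o2 P := cj_eq_of_mem_normalizer (Block.le_normalizer_o2 P hx)

/-- `Q` normalises the conjugates of `V` under `P` -/
theorem o2_normalizes {x : G} (hx : x ∈ P) : o2 P ≤ normalizer ((cj x (vv (S : Subgroup G)) : Subgroup G) : Set G) := by
  have h1 : o2 P ≤ normalizer (vv (S : Subgroup G) : Set G) := p.o2_le_LL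
  have h2 := cj_mono x h1
  rwa [p.cj_o2 hx, cj_normalizer] at h2

end Par

end Cfsg.Agent.OddCyclic.EmpA
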