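import Mathlib
import Cfsg.Agent.OddCyclic.EmpA.Defs

/-!
# (Empty), section 3.2: the isomorphism `E → D₀/R`

`Par S R T P`, `Q = O₂(P)`, `k ∈ P` with `[V^k, V^{vk}] ≠ 1` for all `v ∈ V - Q` (`Wit S P k`). `D = V ⊓ Q`,
`E = V^k ⊓ Q`. Then `V ⊓ V^k = R`, and for `v ∈ V - Q` the map `a ↦ [a, v] R` is an isomorphism `E/R → D/R`.
-/

set_option autoImplicit false
set_option linter.unusedSectionVars false

namespace Cfsg.Agent.OddCyclic.EmpA

open Subgroup Cfsg Cfsg.Agent.ZN Cfsg.Agent.ZN.ChoiceBase Cfsg.Agent.ZN.ChoiceSit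
open Cfsg.Agent.MinSimple Cfsg.Agent.MinSimple.EmptyTI Cfsg.Agent.MinSimple.EmptySix
open Cfsg.Agent.MinSimple.EmptyE.Closed (LL vv_comm vv_sq vv_mul_self vv_inv
  isPGroup_vv vv_le_jj vv_le jj_le_centralizer_vv conj_mem_vv cj_vv)
open Cfsg.Agent.OddCyclic.EmpFrame

universe u

variable {G : Type u} [Group G] [Finite G] {S : Sylow 2 G} {R T P : Subgroup G} {k : G}

/-- `[V^k, V^{vk}] ≠ 1` for all `v ∈ V - O₂(P)` -/
structure Wit (S : Sylow 2 G) (P : Subgroup G) (k : G) : Prop where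
  mem : k ∈ P
  ne : ∀ v ∈ vv (S : Subgroup G), v ∉ o2 P →
    ¬ cj (v * k) (vv (S : Subgroup G)) ≤ centralizer ((cj k (vv (S : Subgroup G)) : Subgroup G) : Set G)

/-- `D = V ⊓ O₂(P)` -/
def dd (S P : Subgroup G) : Subgroup G := vv S ⊓ o2 P

/-- `E = V^k ⊓ O₂(P)` -/
def ee (S P : Subgroup G) (k : G) : Subgroup G := cj k (vv S) ⊓ o2 P

namespace Par

variable (p : Par S R T P)
include p

theorem exists_notMem : ∃ v ∈ vv (S : Subgroup G), v ∉ o2 P := by
  by_contra hcon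
  push Not at hcon
  exact p.not hcon

theorem sq_cj {x a : G} (ha : a ∈ cj x (vv (S : Subgroup G))) : a * a = 1 := by
  obtain ⟨v, hv, rfl⟩ := ha
  rw [← map_mul, vv_mul_self hv, map_one]

theorem comm_cj {x a b : G} (ha : a ∈ cj x (vv (S : Subgroup G))) (hb : b ∈ cj x (vv (S : Subgroup G))) :
    a * b = b * a := by
  obtain ⟨v, hv, rfl⟩ := ha
  obtain ⟨w, hw, rfl⟩ := hb
  rw [← map_mul, ← map_mul, vv_comm hv hw]

theorem R_le_dd : R ≤ dd (S : Subgroup G) P := le_inf p.toConf.R_le_vv p.R_le_o2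

theorem cj_dd {x : G} (hx : x ∈ P) : cj x (dd (S : Subgroup G) P) = ee (S : Subgroup G) P x := by
  rw [dd, ee, cj_inf, p.cj_o2 hx]

theorem R_le_ee {x : G} (hx : x ∈ P) : R ≤ ee (S : Subgroup G) P x := le_inf (p.R_le_cj hx) p.R_le_o2

theorem card_ee {x : G} (hx : x ∈ P) : Nat.card (ee (S : Subgroup G) P x) = Nat.card (dd (S : Subgroup G) P) := by
  rw [← p.cj_dd hx, card_cj]

/-- `[E, V] ≤ D` -/
theorem comm_mem_dd {v a : G} (hv : v ∈ vv (S : Subgroup G)) (ha : a ∈ o2 P) :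
    a * v * a⁻¹ * v⁻¹ ∈ dd (S : Subgroup G) P := by
  refine mem_inf.2 ⟨?_, ?_⟩
  · refine mul_mem ?_ (inv_mem hv)
    exact (mem_normalizer_iff.1 (p.o2_le_LL ha) v).1 hv
  · have h1 := Block.le_normalizer_o2 P (p.vv_le hv)
    have e : a * v * a⁻¹ * v⁻¹ = a * (v * a⁻¹ * v⁻¹) := by group
    rw [e]
    exact mul_mem ha ((mem_normalizer_iff.1 h1 _).1 (inv_mem ha))

/-- `P` acts on `Q/R` faithfully up to 2-groups: `V/D` and `D/R` are nontrivial -/
theorem R_ne_dd : R ≠ dd (S : Subgroup G) P := by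
  intro h0
  -- the elements of `P` acting trivially on `Q/R`
  let C : Subgroup G :=
    { carrier := {x | x ∈ P ∧ ∀ q ∈ o2 P, x * q * x⁻¹ * q⁻¹ ∈ R}
      one_mem' := ⟨one_mem _, fun q hq => by
        have e : 1 * q * 1⁻¹ * q⁻¹ = 1 := by group
        rw [e]; exact one_mem _⟩
      mul_mem' := by
        rintro x y ⟨hx, hx'⟩ ⟨hy, hy'⟩
        refine ⟨mul_mem hx hy, fun q hq => ?_⟩
        have h1 := hy' q hq
        have h2 := p.comm hx h1
        have e : x * y * q * (x * y)⁻¹ * q⁻¹ = x * (y * q * y⁻¹ * q⁻¹) * x⁻¹ * (x * q * x⁻¹ * q⁻¹) := by group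
        rw [e, h2, mul_inv_cancel_right]
        exact mul_mem h1 (hx' q hq)
      inv_mem' := by
        rintro x ⟨hx, hx'⟩
        refine ⟨inv_mem hx, fun q hq => ?_⟩
        have h1 := hx' q hq
        have h2 := p.comm (inv_mem hx) (inv_mem h1)
        have e : x⁻¹ * q * x⁻¹⁻¹ * q⁻¹ = x⁻¹ * (x * q * x⁻¹ * q⁻¹)⁻¹ * x := by group
        rw [e, h2, inv_mul_cancel_right]
        exact inv_mem h1 }
  have hCP : C ≤ P := fun x hx => hx.1
  have hVC : vv (S : Subgroup G) ≤ C := by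
    intro v hv
    refine ⟨p.vv_le hv, fun q hq => ?_⟩
    have h1 := p.comm_mem_dd hv hq
    rw [← h0] at h1
    have e : v * q * v⁻¹ * q⁻¹ = (q * v * q⁻¹ * v⁻¹)⁻¹ := by group
    rw [e]
    exact inv_mem h1
  have hCn : P ≤ normalizer (C : Set G) := by
    refine Block.le_normalizer_of_forall ?_
    rintro g hg x ⟨hx, hx'⟩
    refine ⟨mul_mem (mul_mem hg hx) (inv_mem hg), fun q hq => ?_⟩
    have hgo := Block.le_normalizer_o2 P (inv_mem hg)
    have hq' : g⁻¹ * q * g ∈ o2 P := by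
      have h1 := (mem_normalizer_iff.1 hgo q).1 hq
      rwa [inv_inv] at h1
    have h1 := hx' _ hq'
    have h2 := p.comm hg h1
    have e : g * x * g⁻¹ * q * (g * x * g⁻¹)⁻¹ * q⁻¹ =
        g * (x * (g⁻¹ * q * g) * x⁻¹ * (g⁻¹ * q * g)⁻¹) * g⁻¹ := by group
    rw [e, h2, mul_inv_cancel_right]
    exact h1
  have hodd : ∀ x ∈ C, Odd (orderOf x) → x = 1 := by
    rintro x ⟨hx, hx'⟩ ho
    have h1 : x ∈ centralizer (o2 P : Set G) := by
      rw [mem_centralizer_iff]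
      intro q hq
      obtain ⟨r, hr⟩ : ∃ r, r = x * q * x⁻¹ * q⁻¹ := ⟨_, rfl⟩
      have hrR : r ∈ R := hr ▸ hx' q hq
      have h2 : Commute r x := (p.comm hx hrR).symm
      have h3 : Commute r q := (p.comm (ChoiceSit.o2_le _ hq) hrR).symm
      have h4 : q * x * q⁻¹ = r⁻¹ * x := by rw [hr]; group
      have h5 : q * x ^ orderOf x * q⁻¹ = r⁻¹ ^ orderOf x * x ^ orderOf x := by
        rw [← conj_pow, h4, (h2.inv_left).mul_pow]
      rw [pow_orderOf_eq_one, mul_one, mul_inv_cancel, mul_one, inv_pow] at h5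
      have h6 : r ^ orderOf x = 1 := by
        rw [← inv_inv (r ^ orderOf x), ← h5, inv_one]
      have h7 : r * r = 1 := vv_mul_self (p.toConf.R_le_vv hrR)
      have h8 : r = 1 := by
        have h9 : orderOf r ∣ 2 := orderOf_dvd_of_pow_eq_one (by rw [pow_two]; exact h7)
        have h10 : orderOf r ∣ orderOf x := orderOf_dvd_of_pow_eq_one h6
        exact orderOf_eq_one_iff.1 (Nat.eq_one_of_dvd_coprimes (Nat.coprime_two_left.2 ho) h9 h10)
      rw [h8, inv_one, one_mul] at h4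
      calc q * x = q * x * q⁻¹ * q := by group
        _ = x * q := by rw [h4]
    have h2 := p.cent (mem_inf.2 ⟨hx, h1⟩)
    obtain ⟨n, hn⟩ := Block.o2_isPGroup P ⟨x, h2⟩
    have hn1 : x ^ 2 ^ n = 1 := congrArg Subtype.val hn
    have h3 : orderOf x ∣ 2 ^ n := orderOf_dvd_of_pow_eq_one hn1
    exact orderOf_eq_one_iff.1 (Nat.eq_one_of_dvd_coprimes
      (Nat.Coprime.pow_right n (Nat.coprime_two_right.2 ho)) dvd_rfl h3)
  have hC2 : IsPGroup 2 C := by
    rintro ⟨x, hx⟩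
    obtain ⟨a, m, hm, hnm⟩ := Nat.exists_eq_pow_mul_and_not_dvd (orderOf_pos x).ne' 2 (by norm_num)
    refine ⟨a, Subtype.ext ?_⟩
    show x ^ 2 ^ a = 1
    refine hodd _ (pow_mem hx _) ?_
    rw [orderOf_pow, hnm, Nat.gcd_eq_right (dvd_mul_right (2 ^ a) _), Nat.mul_div_cancel_left _ (by positivity)]
    exact Nat.not_even_iff_odd.1 fun h0 => hm (even_iff_two_dvd.1 h0)
  exact p.not (hVC.trans (Block.le_o2 hC2 hCP hCn))

section Wit

variable (w : Wit S P k)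
include w

/-- `V^k ⊓ V^{vk} = R` -/
theorem inf_cj {v : G} (hv : v ∈ vv (S : Subgroup G)) (hvQ : v ∉ o2 P) :
    cj k (vv (S : Subgroup G)) ⊓ cj (v * k) (vv (S : Subgroup G)) = R :=
  p.toConf.inf_eq (w.ne v hv hvQ) (p.R_le_cj w.mem) (p.R_le_cj (mul_mem (p.vv_le hv) w.mem))

/-- `V` and `V^k` do not commute -/
theorem not_comm : ¬ cj k (vv (S : Subgroup G)) ≤ centralizer (vv (S : Subgroup G) : Set G) := by
  intro h0
  obtain ⟨v, hv, hvQ⟩ := p.exists_notMem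
  apply w.ne v hv hvQ
  have h1 : v ∈ normalizer ((cj k (vv (S : Subgroup G)) : Subgroup G) : Set G) := by
    apply centralizer_le_normalizer
    rw [mem_centralizer_iff]
    intro x hx
    exact (mem_centralizer_iff.1 (h0 hx) v hv).symm
  rw [← cj_cj, cj_eq_of_mem_normalizer h1]
  intro x hx
  rw [mem_centralizer_iff]
  intro y hy
  exact p.comm_cj hy hx

/-- `V ⊓ V^k = R` -/
theorem inf_eq_R : vv (S : Subgroup G) ⊓ cj k (vv (S : Subgroup G)) = R := by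
  have h1 := p.toConf.inf_eq (a := 1) (b := k) (by rw [cj_one]; exact p.not_comm w)
    (by rw [cj_one]; exact p.toConf.R_le_vv) (p.R_le_cj w.mem)
  rwa [cj_one] at h1

/-- `[E, D] ≤ R` -/
theorem comm_mem_R {v a : G} (hv : v ∈ dd (S : Subgroup G) P) (ha : a ∈ ee (S : Subgroup G) P k) :
    a * v * a⁻¹ * v⁻¹ ∈ R := by
  rw [← p.inf_eq_R w]
  refine mem_inf.2 ⟨(mem_inf.1 (p.comm_mem_dd hv.1 ha.2)).1, ?_⟩
  have h1 := p.o2_normalizes w.mem hv.2
  have e : a * v * a⁻¹ * v⁻¹ = a * (v * a⁻¹ * v⁻¹) := by group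
  rw [e]
  exact mul_mem ha.1 ((mem_normalizer_iff.1 h1 _).1 (inv_mem ha.1))

/-- `[a, v] ∈ R` only for `a ∈ R` -/
theorem mem_R_of_comm {v a : G} (hv : v ∈ vv (S : Subgroup G)) (hvQ : v ∉ o2 P)
    (ha : a ∈ ee (S : Subgroup G) P k) (h : a * v * a⁻¹ * v⁻¹ ∈ R) : a ∈ R := by
  have hvP := p.vv_le hv
  -- `v a v⁻¹ ∈ a R`
  have h1 : v * a * v⁻¹ ∈ cj k (vv (S : Subgroup G)) := by
    have e : v * a * v⁻¹ = (a * v * a⁻¹ * v⁻¹)⁻¹ * a := by group
    rw [e]
    exact mul_mem (inv_mem (p.R_le_cj w.mem h)) ha.1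
  have h2 : v * a * v⁻¹ ∈ cj (v * k) (vv (S : Subgroup G)) := by
    rw [← cj_cj]
    exact ⟨a, ha.1, rfl⟩
  have h3 : v * a * v⁻¹ ∈ R := by
    rw [← p.inf_cj w hv hvQ]
    exact mem_inf.2 ⟨h1, h2⟩
  have h4 := p.comm (inv_mem hvP) h3
  have e : a = v⁻¹ * (v * a * v⁻¹) * v := by group
  rw [e, h4, inv_mul_cancel_right]
  exact h3

/-- `C_V(a) ≤ D` for `a ∈ E - R` -/
theorem mem_dd_of_comm {v a : G} (hv : v ∈ vv (S : Subgroup G)) (ha : a ∈ ee (S : Subgroup G) P k) (haR : a ∉ R)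
    (h : a * v * a⁻¹ * v⁻¹ ∈ R) : v ∈ dd (S : Subgroup G) P := by
  by_contra hcon
  exact haR (p.mem_R_of_comm w hv (fun h0 => hcon (mem_inf.2 ⟨hv, h0⟩)) ha h)

/-- `D = [E, v] R` -/
theorem exists_comm {v : G} (hv : v ∈ vv (S : Subgroup G)) (hvQ : v ∉ o2 P) {x : G}
    (hx : x ∈ dd (S : Subgroup G) P) :
    ∃ a ∈ ee (S : Subgroup G) P k, ∃ r ∈ R, x = a * v * a⁻¹ * v⁻¹ * r := by
  obtain ⟨D, hD⟩ : ∃ D : Subgroup G, D = dd (S : Subgroup G) P := ⟨_, rfl⟩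
  obtain ⟨E, hE⟩ : ∃ E : Subgroup G, E = ee (S : Subgroup G) P k := ⟨_, rfl⟩
  rw [← hD] at hx
  have hDV : D ≤ vv (S : Subgroup G) := hD ▸ inf_le_left
  have hRD : R ≤ D := hD ▸ p.R_le_dd
  have hRE : R ≤ E := hE ▸ p.R_le_ee w.mem
  have hn : (R.subgroupOf D).Normal := by
    refine ⟨fun r hr g => ?_⟩
    have h1 : g * r * g⁻¹ = r := by
      apply Subtype.ext
      show (g : G) * r * (g : G)⁻¹ = r
      rw [vv_comm (hDV g.2) (hDV r.2), mul_inv_cancel_right]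
    rwa [h1]
  have hmem : ∀ a : E, (a : G) * v * (a : G)⁻¹ * v⁻¹ ∈ D := fun a => by
    rw [hD]
    exact p.comm_mem_dd hv (show (a : G) ∈ o2 P from (hE ▸ a.2 : (a : G) ∈ ee (S : Subgroup G) P k).2)
  let ψ : E →* D ⧸ R.subgroupOf D :=
    { toFun := fun a => QuotientGroup.mk' (R.subgroupOf D) ⟨(a : G) * v * (a : G)⁻¹ * v⁻¹, hmem a⟩
      map_one' := by
        rw [← map_one (QuotientGroup.mk' (R.subgroupOf D))]
        congr 1
        apply Subtype.ext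
        show (1 : G) * v * (1 : G)⁻¹ * v⁻¹ = 1
        group
      map_mul' := by
        intro a b
        rw [← map_mul]
        refine (QuotientGroup.mk'_eq_mk' (R.subgroupOf D)).2 ?_
        have h1 : (b : G) * v * (b : G)⁻¹ * v⁻¹ ∈ dd (S : Subgroup G) P := hD ▸ hmem b
        have h2 : (a : G) * ((b : G) * v * (b : G)⁻¹ * v⁻¹) * (a : G)⁻¹ * ((b : G) * v * (b : G)⁻¹ * v⁻¹)⁻¹ ∈ R :=
          p.comm_mem_R w h1 (hE ▸ a.2)
        obtain ⟨s, hs⟩ : ∃ s, s = (b : G) * v * (b : G)⁻¹ * v⁻¹ := ⟨_, rfl⟩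
        obtain ⟨t, ht⟩ : ∃ t, t = (a : G) * v * (a : G)⁻¹ * v⁻¹ := ⟨_, rfl⟩
        rw [← hs] at h1 h2
        have ht1 : t ∈ D := ht ▸ hmem a
        have h3 : ((a * b : E) : G) * v * ((a * b : E) : G)⁻¹ * v⁻¹ = (a : G) * s * (a : G)⁻¹ * s⁻¹ * (s * t) := by
          rw [hs, ht, coe_mul]; group
        obtain ⟨r, hr⟩ : ∃ r, r = (a : G) * s * (a : G)⁻¹ * s⁻¹ := ⟨_, rfl⟩
        rw [← hr] at h2 h3
        have hsD : s ∈ D := hD ▸ h1
        refine ⟨(⟨r, hRD h2⟩ : D)⁻¹, inv_mem h2, Subtype.ext ?_⟩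
        show ((a * b : E) : G) * v * ((a * b : E) : G)⁻¹ * v⁻¹ * r⁻¹ =
          ((a : G) * v * (a : G)⁻¹ * v⁻¹) * ((b : G) * v * (b : G)⁻¹ * v⁻¹)
        rw [h3, ← hs, ← ht, vv_comm (hDV hsD) (hDV ht1), vv_comm (hDV (hRD h2)) (hDV (mul_mem ht1 hsD)),
          mul_inv_cancel_right] }
  have hker : ψ.ker = R.subgroupOf E := by
    ext a
    rw [MonoidHom.mem_ker, mem_subgroupOf]
    show QuotientGroup.mk' (R.subgroupOf D) ⟨(a : G) * v * (a : G)⁻¹ * v⁻¹, hmem a⟩ = 1 ↔ _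
    rw [← MonoidHom.mem_ker, QuotientGroup.ker_mk', mem_subgroupOf]
    constructor
    · intro h1
      exact p.mem_R_of_comm w hv hvQ (hE ▸ a.2) h1
    · intro h1
      show (a : G) * v * (a : G)⁻¹ * v⁻¹ ∈ R
      rw [← p.comm (p.vv_le hv) h1, mul_inv_cancel_right, mul_inv_cancel]
      exact one_mem _
  have hcard : Nat.card ψ.range = Nat.card (D ⧸ R.subgroupOf D) := by
    have h1 : Nat.card ψ.ker * Nat.card ψ.range = Nat.card E := by
      rw [← index_ker, ← Subgroup.card_mul_index ψ.ker]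
    have h2 : Nat.card (R.subgroupOf D) * Nat.card (D ⧸ R.subgroupOf D) = Nat.card D :=
      Subgroup.card_mul_index (R.subgroupOf D)
    have h3 : Nat.card (R.subgroupOf E) = Nat.card (R.subgroupOf D) := by
      rw [Nat.card_congr (Subgroup.subgroupOfEquivOfLe hRD).toEquiv,
        Nat.card_congr (Subgroup.subgroupOfEquivOfLe hRE).toEquiv]
    have h4 : Nat.card E = Nat.card D := by rw [hE, hD]; exact p.card_ee w.mem
    rw [hker, h3, h4, ← h2] at h1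
    exact Nat.eq_of_mul_eq_mul_left Nat.card_pos h1
  have hsurj : ψ.range = ⊤ := Subgroup.eq_top_of_card_eq _ hcard
  obtain ⟨a, ha⟩ : ∃ a : E, ψ a = QuotientGroup.mk' (R.subgroupOf D) ⟨x, hx⟩ := by
    have h1 : QuotientGroup.mk' (R.subgroupOf D) ⟨x, hx⟩ ∈ ψ.range := by rw [hsurj]; exact mem_top _
    exact h1
  obtain ⟨r, hr, hrx⟩ := (QuotientGroup.mk'_eq_mk' (R.subgroupOf D)).1 ha
  exact ⟨a, hE ▸ a.2, r, hr, (congrArg Subtype.val hrx).symm⟩

/-- `|D/R| ≠ 2` -/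
theorem relIndex_ne_two : R.relIndex (dd (S : Subgroup G) P) ≠ 2 := by
  intro h2
  obtain ⟨v, hv, hvQ⟩ := p.exists_notMem
  have hvD : v ∉ dd (S : Subgroup G) P := fun h => hvQ h.2
  have hDV : dd (S : Subgroup G) P ≤ vv (S : Subgroup G) := inf_le_left
  have hRD := p.R_le_dd
  have hRE := p.R_le_ee w.mem
  -- `a ∈ E - R`
  obtain ⟨a, ha, haR⟩ : ∃ a ∈ ee (S : Subgroup G) P k, a ∉ R := by
    by_contra hcon
    push Not at hcon
    have h3 : R = ee (S : Subgroup G) P k := le_antisymm hRE hcon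
    have h4 : Nat.card R = Nat.card (dd (S : Subgroup G) P) := by rw [← p.card_ee w.mem, ← h3]
    exact p.R_ne_dd (eq_of_le_of_card_ge hRD h4.ge)
  have haa : a * a = 1 := p.sq_cj ha.1
  have hai : a⁻¹ = a := inv_eq_of_mul_eq_one_left haa
  -- products of elements outside
  have hout : ∀ x ∈ vv (S : Subgroup G), x ∉ dd (S : Subgroup G) P → ∀ y ∈ vv (S : Subgroup G),
      y ∉ dd (S : Subgroup G) P → x * y ∈ dd (S : Subgroup G) P := by
    intro x hx hxD y hy hyD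
    have hx1 := p.comm_mem_dd hx ha.2
    have hy1 := p.comm_mem_dd hy ha.2
    have hx2 : a * x * a⁻¹ * x⁻¹ ∉ R := fun h => hxD (p.mem_dd_of_comm w hx ha haR h)
    have hy2 : a * y * a⁻¹ * y⁻¹ ∉ R := fun h => hyD (p.mem_dd_of_comm w hy ha haR h)
    have h3 := Block.mul_mem_of_relIndex_two h2 hx1 hy1 hx2 hy2
    refine p.mem_dd_of_comm w (mul_mem hx hy) ha haR ?_
    obtain ⟨c, hc⟩ : ∃ c, c = a * y * a⁻¹ * y⁻¹ := ⟨_, rfl⟩
    rw [← hc] at h3 hy1
    have h4 := vv_comm hx (hDV hy1)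
    have e : a * (x * y) * a⁻¹ * (x * y)⁻¹ = (a * x * a⁻¹ * x⁻¹) * (x * c * x⁻¹) := by rw [hc]; group
    rw [e, h4, mul_inv_cancel_right]
    exact h3
  have hVD : (dd (S : Subgroup G) P).relIndex (vv (S : Subgroup G)) = 2 := by
    rw [relIndex, index_eq_two_iff]
    refine ⟨⟨v, hv⟩, fun b => ?_⟩
    rw [mem_subgroupOf, mem_subgroupOf]
    by_cases hb : (b : G) ∈ dd (S : Subgroup G) P
    · refine Or.inr ⟨hb, fun h3 => hvD ?_⟩
      have h4 := mul_mem (inv_mem hb) h3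
      rwa [coe_mul, inv_mul_cancel_left] at h4
    · exact Or.inl ⟨hout _ b.2 hb _ hv hvD, hb⟩
  -- `D` centralises `a`
  have hDa : ∀ x ∈ dd (S : Subgroup G) P, a * x = x * a := by
    intro x hx
    have hv1 := p.comm_mem_dd hv ha.2
    have hv2 : a * v * a⁻¹ * v⁻¹ ∉ R := fun h => hvD (p.mem_dd_of_comm w hv ha haR h)
    have hav : a * (a * v * a⁻¹ * v⁻¹) = (a * v * a⁻¹ * v⁻¹) * a := by
      have h3 : (a * v * a⁻¹ * v⁻¹) * (a * v * a⁻¹ * v⁻¹) = 1 := vv_mul_self (hDV hv1)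
      have h4 : (a * v * a⁻¹ * v⁻¹)⁻¹ = a * v * a⁻¹ * v⁻¹ := inv_eq_of_mul_eq_one_left h3
      have h5 : a * (a * v * a⁻¹ * v⁻¹) * a⁻¹ = a * v * a⁻¹ * v⁻¹ := by
        have e : (a * v * a⁻¹ * v⁻¹)⁻¹ = v * a * v⁻¹ * a⁻¹ := by group
        conv_rhs => rw [← h4, e]
        calc a * (a * v * a⁻¹ * v⁻¹) * a⁻¹ = (a * a) * v * a⁻¹ * v⁻¹ * a⁻¹ := by group
          _ = v * a * v⁻¹ * a⁻¹ := by rw [haa, one_mul, hai]
      calc a * (a * v * a⁻¹ * v⁻¹) = a * (a * v * a⁻¹ * v⁻¹) * a⁻¹ * a := by group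
        _ = a * v * a⁻¹ * v⁻¹ * a := by rw [h5]
    by_cases hxR : x ∈ R
    · exact p.comm (ChoiceSit.o2_le _ ha.2) hxR
    · have h3 := Block.mul_mem_of_relIndex_two h2 hv1 hx hv2 hxR
      have h4 := p.comm (ChoiceSit.o2_le _ ha.2) h3
      obtain ⟨c, hc⟩ : ∃ c, c = a * v * a⁻¹ * v⁻¹ := ⟨_, rfl⟩
      rw [← hc] at h4 hav
      have e : x = c⁻¹ * (c * x) := by group
      have h5 : Commute a c := hav
      have h6 : Commute a (c * x) := h4
      rw [e]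
      exact h5.inv_right.mul_right h6
  -- (NFF) for `⟨a⟩`
  have haL : zpowers a ≤ normalizer (vv (S : Subgroup G) : Set G) := zpowers_le.2 (p.o2_le_LL ha.2)
  have hsq : ∀ b ∈ zpowers a, b * b = 1 := by
    rintro _ ⟨n, rfl⟩
    show a ^ n * a ^ n = 1
    have h3 : Commute a a := Commute.refl a
    rw [← h3.mul_zpow, haa, one_zpow]
  have hne : ∀ b ∈ zpowers a, b ∈ centralizer (vv (S : Subgroup G) : Set G) → b = 1 := by
    intro b hb hbV
    have h3 : b = 1 ∨ b = a := by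
      obtain ⟨n, rfl⟩ := hb
      rcases Int.even_or_odd' n with ⟨m, rfl | rfl⟩
      · left
        show a ^ (2 * m) = 1
        rw [zpow_mul, zpow_ofNat, pow_two, haa, one_zpow]
      · right
        show a ^ (2 * m + 1) = a
        rw [zpow_add, zpow_mul, zpow_ofNat, pow_two, haa, one_zpow, one_mul, zpow_one]
    rcases h3 with h3 | h3
    · exact h3
    · exfalso
      rw [h3] at hbV
      have h4 := mem_centralizer_iff.1 hbV v hv
      apply hvD
      refine p.mem_dd_of_comm w hv ha haR ?_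
      rw [← h4, mul_inv_cancel_right, mul_inv_cancel]
      exact one_mem _
  have hbot : zpowers a ⊓ centralizer (vv (S : Subgroup G) : Set G) = ⊥ := by
    rw [eq_bot_iff]
    intro b hb
    exact mem_bot.2 (hne b hb.1 hb.2)
  have ha1 : a ≠ 1 := fun h => haR (h ▸ one_mem _)
  have hcard : Nat.card (zpowers a) = 2 := by
    rw [Nat.card_zpowers]
    exact orderOf_eq_prime (by rw [pow_two]; exact haa) ha1
  have h7 := p.nff (zpowers a) haL (fun b hb => by rw [hsq b hb]; exact one_mem _)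
    (fun b hb c hc => by
      have h8 := comm_of_sq' hsq hb hc
      rw [h8]
      have e : c * b * b⁻¹ * c⁻¹ = 1 := by group
      rw [e]; exact one_mem _)
    (fun h8 => ha1 (hne a (mem_zpowers a) (h8 (mem_zpowers a))))
  rw [hbot, hcard, card_bot, mul_one] at h7
  have h8 : Nat.card (dd (S : Subgroup G) P) ≤
      Nat.card (vv (S : Subgroup G) ⊓ centralizer (zpowers a : Set G) : Subgroup G) := by
    refine card_le_of_le ?_
    refine le_inf hDV ?_
    intro x hx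
    rw [mem_centralizer_iff]
    rintro _ ⟨n, rfl⟩
    have h9 : Commute a x := hDa x hx
    exact h9.zpow_left n
  have h9 : Nat.card (dd (S : Subgroup G) P) * 2 = Nat.card (vv (S : Subgroup G)) := by
    have h10 : Nat.card (dd (S : Subgroup G) P) * (dd (S : Subgroup G) P).relIndex (vv (S : Subgroup G)) =
        Nat.card (vv (S : Subgroup G)) := by
      rw [← relIndex_bot_left, ← relIndex_bot_left (vv (S : Subgroup G))]
      exact relIndex_mul_relIndex _ _ _ bot_le hDV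
    rwa [hVD] at h10
  omega

end Wit

end Par

end Cfsg.Agent.OddCyclic.EmpA
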