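import Mathlib
import Cfsg.Agent.OddCyclic.EmpA.Wit
import Cfsg.Agent.OddCyclic.EmpC.Irr
import Cfsg.Agent.OddCyclic.RedRep
import Cfsg.Agent.OddCyclic.KZeroCongr

/-!
# (Empty): the group induced by `L = N_G(V)` on `V`

* `exists_act`: abstract groups `H` (= `L/C_G(V)`), `W` (= `V`) with `r : L →* H`, `ρ : H →* MulAut W`, `ι : W →* G`
  (`RedRep.Rep`), `TH = r(S)` Sylow, and `OddCyc H`, `O₂(H) = 1`, `KZero` simple subgroups, `EmpC.Bad ρ TH`;
* `nff_of_rep`: `EmpC.NFF ρ` from `EmpFrame.NFF (vv S)`; `nff_of_abs`: the converse;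
* `Par.cfg`: `EmpC.Cfg` from `Par S R T P`, `Wit S P k`.
-/

set_option autoImplicit false
set_option linter.unusedSectionVars false

namespace Cfsg.Agent.OddCyclic.EmpA

open Subgroup Cfsg Cfsg.Agent.ZN Cfsg.Agent.ZN.ChoiceBase Cfsg.Agent.ZN.ChoiceSit
open Cfsg.Agent.MinSimple Cfsg.Agent.MinSimple.EmptyTI Cfsg.Agent.MinSimple.EmptySix
open Cfsg.Agent.MinSimple.EmptyE.Closed (LL CC vv_comm vv_sq vv_mul_self vv_inv
  isPGroup_vv vv_le_jj vv_le jj_le_centralizer_vv conj_mem_vv cj_vv)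
open Cfsg.Agent.OddCyclic.EmpFrame
open Cfsg.Agent.OddCyclic.T1Defs (OddCyc)
open Cfsg.Agent.OddCyclic.PumpMain (KZero)
open Cfsg.Agent.OddCyclic.KZeroCongr (KS)
open Cfsg.Agent.OddCyclic.RedRep (Rep)
open Cfsg.Agent.OddCyclic.T1Module Cfsg.Agent.OddCyclic.FFBasic Cfsg.Agent.OddCyclic.FFRed

universe u

variable {G : Type u} [Group G] [Finite G] {S : Sylow 2 G} {R T P : Subgroup G} {k : G}

theorem LL_ne_top (h : ENS S) : LL (S : Subgroup G) ≠ ⊤ := by
  obtain ⟨X, -, -, hX⟩ := h.nu _ h.isTwoLocal_LL h.le_LL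
  intro h0
  exact hX (h0 ▸ le_top)

/-- the action of `L` on `V` -/
theorem exists_rep (S : Sylow 2 G) : ∃ (H W : Type u) (_ : Group H) (_ : CommGroup W) (_ : Finite H) (_ : Finite W)
    (r : LL (S : Subgroup G) →* H) (ρ : H →* MulAut W) (ι : W →* G),
    Rep (LL (S : Subgroup G)) (vv (S : Subgroup G)) r ρ ι ∧ ∀ w : W, w * w = 1 := by
  obtain ⟨V, hV⟩ : ∃ V : Subgroup G, V = vv (S : Subgroup G) := ⟨_, rfl⟩
  have hc : ∀ a b : V, a * b = b * a := by
    rintro ⟨a, ha⟩ ⟨b, hb⟩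
    rw [hV] at ha hb
    exact Subtype.ext (vv_comm ha hb)
  let iW : CommGroup V := { (inferInstance : Group V) with mul_comm := hc }
  let r0 : normalizer (V : Set G) →* MulAut V := V.normalizerMonoidHom
  have hL : LL (S : Subgroup G) = normalizer (V : Set G) := by rw [hV]
  rw [hL, ← hV]
  have : Finite (MulAut V) := Finite.of_injective (fun f : MulAut V => (f : V → V)) DFunLike.coe_injective
  refine ⟨r0.range, V, inferInstance, iW, inferInstance, inferInstance, r0.rangeRestrict, r0.range.subtype, V.subtype,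
    ⟨MonoidHom.rangeRestrict_surjective _, Subtype.val_injective, Subtype.val_injective, Subgroup.range_subtype V,
      ?_⟩, ?_⟩
  · intro x v
    rfl
  · rintro ⟨a, ha⟩
    rw [hV] at ha
    exact Subtype.ext (vv_mul_self ha)

section Rep

variable {H W : Type u} [Group H] [CommGroup W] {r : LL (S : Subgroup G) →* H} {ρ : H →* MulAut W} {ι : W →* G}

theorem mem_CS_iff (h : Rep (LL (S : Subgroup G)) (vv (S : Subgroup G)) r ρ ι) {A : Subgroup G}
    (hA : A ≤ LL (S : Subgroup G)) {v : W} : v ∈ CS ρ ((A.subgroupOf (LL (S : Subgroup G))).map r) ↔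
      ι v ∈ centralizer (A : Set G) := by
  rw [mem_centralizer_iff]
  constructor
  · intro hv a ha
    have h1 := hv (r ⟨a, hA ha⟩) ⟨⟨a, hA ha⟩, mem_subgroupOf.2 ha, rfl⟩
    exact h.fix.1 h1
  · rintro hv _ ⟨x, hx, rfl⟩
    exact h.fix.2 (hv x hx)

/-- `C_V(S) = Z` -/
theorem mem_CS_S (h : ENS S) (hr : Rep (LL (S : Subgroup G)) (vv (S : Subgroup G)) r ρ ι) {v : W} :
    v ∈ CS ρ (((S : Subgroup G).subgroupOf (LL (S : Subgroup G))).map r) ↔ ι v ∈ zc (S : Subgroup G) := by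
  rw [mem_CS_iff hr h.le_LL]
  constructor
  · intro h1
    exact h.mem_zc_of_comm (hr.mem v) fun s hs => mem_centralizer_iff.1 h1 s hs
  · intro h1
    rw [mem_centralizer_iff]
    exact (ChoiceBase.mem_zc.1 h1).2.2

/-- `EmpC.Bad` -/
theorem bad_of_rep (h : ENS S) (hr : Rep (LL (S : Subgroup G)) (vv (S : Subgroup G)) r ρ ι) {TH : Sylow 2 H}
    (hT : (TH : Subgroup H) = ((S : Subgroup G).subgroupOf (LL (S : Subgroup G))).map r) : EmpC.Bad ρ TH where
  gen := by
    intro B hB hZ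
    rw [hT] at hZ
    have h1 : vv (S : Subgroup G) ≤ B.map ι := by
      refine h.vv_le_of_forall fun g hg => ?_
      rintro _ ⟨z, hz, rfl⟩
      obtain ⟨v, rfl⟩ := hr.exists_v (zc_le_vv _ hz)
      have h2 : v ∈ B := hZ ((mem_CS_S h hr).2 hz)
      refine ⟨_, hB (r ⟨g, hg⟩) v h2, ?_⟩
      rw [hr.act]
      rfl
    rw [eq_top_iff]
    intro v _
    obtain ⟨b, hb, hbv⟩ := h1 (hr.mem v)
    rwa [← hr.iinj hbv]
  cl := by
    intro z hz hz1
    rw [hT] at hz
    have hzZ := (mem_CS_S h hr).1 hz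
    have hz1' : ι z ≠ 1 := fun h0 => hz1 (hr.iinj (by rw [h0, map_one]))
    obtain ⟨D, hD⟩ : ∃ D : Subgroup G, D = zpowers (ι z) := ⟨_, rfl⟩
    have hDZ : D ≤ zc (S : Subgroup G) := hD ▸ zpowers_le.2 hzZ
    have hDV : D ≤ vv (S : Subgroup G) := hDZ.trans (zc_le_vv _)
    have hD1 : D ≠ ⊥ := fun h0 => hz1' (zpowers_eq_bot.1 (hD ▸ h0))
    refine ⟨(cld (S : Subgroup G) D).comap ι, le_cld hDV (hD ▸ mem_zpowers _), ?_, ?_, ?_⟩
    · intro v hv
      rw [hT] at hv
      have hv1 := (mem_CS_S h hr).1 hv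
      have hSylS : Syl (S : Subgroup G) (LL (S : Subgroup G) ⊓ centralizer (D : Set G)) := by
        refine EmptyTI.syl_of_le (le_inf h.le_LL ?_)
        intro s hs
        rw [mem_centralizer_iff]
        intro d hd
        exact ((ChoiceBase.mem_zc.1 (hDZ hd)).2.2 s hs).symm
      refine h.inf_centralizer_le_cld hDV hD1 hSylS (mem_inf.2 ⟨hr.mem v, ?_⟩)
      rw [mem_centralizer_iff]
      exact (ChoiceBase.mem_zc.1 hv1).2.2
    · intro x hx b hb
      obtain ⟨x, rfl⟩ := hr.surj x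
      have h1 : (x : G) * ι z = ι z * x := hr.fix.1 hx
      have h2 : (x : G) ∈ normalizer (D : Set G) := by
        apply centralizer_le_normalizer
        rw [mem_centralizer_iff, hD]
        rintro _ ⟨n, rfl⟩
        have h3 : Commute (x : G) (ι z) := h1
        exact (h3.zpow_right n).symm
      have h3 := normalizer_le_cld (hDV.trans (vv_le_zj _)) h2
      show ι (ρ (r x) b) ∈ cld (S : Subgroup G) D
      rw [hr.act]
      exact (mem_normalizer_iff.1 h3 _).1 hb
    · intro N hN hNi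
      by_contra hN1
      have h1 : N.map ι ≤ cld (S : Subgroup G) D := by
        rintro _ ⟨n, hn, rfl⟩
        exact hN hn
      have h2 : N.map ι ≠ ⊥ := by
        intro h0
        apply hN1
        rw [eq_bot_iff]
        intro n hn
        have h3 : ι n ∈ N.map ι := ⟨n, hn, rfl⟩
        rw [h0, mem_bot] at h3
        exact mem_bot.2 (hr.iinj (by rw [h3, map_one]))
      have h3 : normalizer (jj (S : Subgroup G) : Set G) ≤ normalizer (N.map ι : Set G) := by
        refine Block.le_normalizer_of_forall ?_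
        rintro g hg _ ⟨n, hn, rfl⟩
        refine ⟨_, hNi (r ⟨g, h.normalizer_le_LL hg⟩) n hn, ?_⟩
        rw [hr.act]
      have h4 := h.good_of_normal (h1.trans (cld_le _ _)) h2 h3
      have h5 : Good (S : Subgroup G) (cld (S : Subgroup G) D) := h4.mono h1
      apply h.not_good_of_le_zc hDZ
      have h6 : cld (S : Subgroup G) (cld (S : Subgroup G) D) = vv (S : Subgroup G) := h5
      rwa [cld_cld hDV] at h6

/-- `O₂(L/C_L(V)) = 1` -/
theorem core_of_rep (h : ENS S) [Finite H] (hr : Rep (LL (S : Subgroup G)) (vv (S : Subgroup G)) r ρ ι) :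
    pCore 2 H = ⊥ := by
  have hf : Fact (Nat.Prime 2) := ⟨Nat.prime_two⟩
  rw [eq_bot_iff]
  obtain ⟨TH, hTH⟩ : ∃ TH : Sylow 2 H, (TH : Subgroup H) = ((S : Subgroup G).subgroupOf (LL (S : Subgroup G))).map r :=
    ⟨(S.subtype h.le_LL).mapSurjective hr.surj, by rw [Sylow.coe_mapSurjective, Sylow.coe_subtype]⟩
  have hle : pCore 2 H ≤ (TH : Subgroup H) := Lib.Cores.pCore_le_sylow TH
  have hn : (pCore 2 H).Normal := Lib.Cores.pCore_normal 2
  intro d hd
  -- `CS ρ (O₂(H))` is invariant and contains `Z`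
  have h1 : CS ρ (pCore 2 H) = ⊤ := by
    refine (bad_of_rep h hr hTH).gen _ ?_ ?_
    · intro x v hv y hy
      have h2 := hv (x⁻¹ * y * x) (by
        have := hn.conj_mem y hy x⁻¹
        rwa [inv_inv] at this)
      have e : ρ y (ρ x v) = ρ x (ρ (x⁻¹ * y * x) v) := by
        rw [← MulAut.mul_apply, ← MulAut.mul_apply, ← map_mul, ← map_mul]
        congr 2
        group
      rw [e, h2]
    · intro v hv y hy
      exact hv y (hle hy)
  rw [mem_bot]
  apply hr.inj
  rw [map_one]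
  apply MulEquiv.ext
  intro v
  have h2 : v ∈ CS ρ (pCore 2 H) := by rw [h1]; exact mem_top v
  exact h2 d hd

/-- the image of `A ≤ L` -/
theorem card_eq (hr : Rep (LL (S : Subgroup G)) (vv (S : Subgroup G)) r ρ ι) {A : Subgroup G}
    (hA : A ≤ LL (S : Subgroup G)) : Nat.card A = Nat.card ((A.subgroupOf (LL (S : Subgroup G))).map r) *
      Nat.card (A ⊓ centralizer (vv (S : Subgroup G) : Set G) : Subgroup G) := by
  let f : A →* H := r.comp (inclusion hA)
  have h1 : f.range = (A.subgroupOf (LL (S : Subgroup G))).map r := by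
    ext x
    constructor
    · rintro ⟨a, rfl⟩
      exact ⟨inclusion hA a, mem_subgroupOf.2 a.2, rfl⟩
    · rintro ⟨a, ha, rfl⟩
      exact ⟨⟨a, mem_subgroupOf.1 ha⟩, rfl⟩
  have h2 : f.ker.map A.subtype = A ⊓ centralizer (vv (S : Subgroup G) : Set G) := by
    ext x
    constructor
    · rintro ⟨a, ha, rfl⟩
      refine mem_inf.2 ⟨a.2, ?_⟩
      rw [mem_centralizer_iff]
      intro v hv
      exact (hr.r_eq_one.1 (show r (inclusion hA a) = 1 from ha) v hv).symm
    · rintro ⟨hx, hxc⟩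
      refine ⟨⟨x, hx⟩, ?_, rfl⟩
      exact hr.r_eq_one.2 fun v hv => (mem_centralizer_iff.1 hxc v hv).symm
  rw [← h1, ← h2, card_map_of_injective A.subtype_injective, ← index_ker, mul_comm]
  exact (card_mul_index f.ker).symm

theorem card_CS (hr : Rep (LL (S : Subgroup G)) (vv (S : Subgroup G)) r ρ ι) {A : Subgroup G}
    (hA : A ≤ LL (S : Subgroup G)) : Nat.card (vv (S : Subgroup G) ⊓ centralizer (A : Set G) : Subgroup G) =
      Nat.card (CS ρ ((A.subgroupOf (LL (S : Subgroup G))).map r)) := by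
  rw [← card_map_of_injective hr.iinj]
  congr 2
  ext x
  constructor
  · rintro ⟨hx, hxc⟩
    obtain ⟨v, rfl⟩ := hr.exists_v hx
    exact ⟨v, (mem_CS_iff hr hA).2 hxc, rfl⟩
  · rintro ⟨v, hv, rfl⟩
    exact mem_inf.2 ⟨hr.mem v, (mem_CS_iff hr hA).1 hv⟩

theorem card_vv (hr : Rep (LL (S : Subgroup G)) (vv (S : Subgroup G)) r ρ ι) :
    Nat.card (vv (S : Subgroup G)) = Nat.card W := by
  rw [← hr.range]
  exact Nat.card_congr (Equiv.ofInjective ι hr.iinj).symm

theorem nff_of_rep [Finite H] (hr : Rep (LL (S : Subgroup G)) (vv (S : Subgroup G)) r ρ ι)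
    (hN : NFF (vv (S : Subgroup G))) : EmpC.NFF ρ := by
  intro A hA hA1
  have hW : Finite W := Finite.of_injective ι hr.iinj
  obtain ⟨B, hB⟩ : ∃ B : Subgroup G, B = (A.comap r).map (LL (S : Subgroup G)).subtype := ⟨_, rfl⟩
  have hBL : B ≤ LL (S : Subgroup G) := hB ▸ map_subtype_le _
  have hBs : B.subgroupOf (LL (S : Subgroup G)) = A.comap r := by
    rw [hB, subgroupOf, comap_map_eq_self_of_injective (subtype_injective _)]
  have hBm : (B.subgroupOf (LL (S : Subgroup G))).map r = A := by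
    rw [hBs, map_comap_eq_self_of_surjective hr.surj]
  have hmem : ∀ {x : G} (hx : x ∈ LL (S : Subgroup G)), r ⟨x, hx⟩ = 1 →
      x ∈ centralizer (vv (S : Subgroup G) : Set G) := by
    intro x hx h1
    rw [mem_centralizer_iff]
    intro v hv
    exact (hr.r_eq_one.1 h1 v hv).symm
  have hrA : ∀ {x : G} (hx : x ∈ B), r ⟨x, hBL hx⟩ ∈ A := by
    intro x hx
    have h1 : (⟨x, hBL hx⟩ : LL (S : Subgroup G)) ∈ B.subgroupOf (LL (S : Subgroup G)) := mem_subgroupOf.2 hx
    rw [hBs] at h1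
    exact h1
  have h1 := hN B hBL ?_ ?_ ?_
  · rw [card_eq hr hBL, card_CS hr hBL, card_vv hr, hBm] at h1
    have h2 : Nat.card (CS ρ A) * (CS ρ A).index = Nat.card W := card_mul_index _
    rw [← h2] at h1
    have h3 : Nat.card A * (Nat.card (CS ρ A) * Nat.card (B ⊓ centralizer (vv (S : Subgroup G) : Set G) : Subgroup G)) <
        (CS ρ A).index * (Nat.card (CS ρ A) * Nat.card (B ⊓ centralizer (vv (S : Subgroup G) : Set G) : Subgroup G)) := by
      calc _ = Nat.card A * Nat.card (B ⊓ centralizer (vv (S : Subgroup G) : Set G) : Subgroup G) *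
            Nat.card (CS ρ A) := by ring
        _ < _ := h1
        _ = _ := by ring
    exact lt_of_mul_lt_mul_right h3 (Nat.zero_le _)
  · intro a ha
    refine hmem (mul_mem (hBL ha) (hBL ha)) ?_
    have h2 := hA _ (hrA ha)
    rw [← map_mul] at h2
    exact h2
  · intro a ha b hb
    refine hmem (mul_mem (mul_mem (mul_mem (hBL ha) (hBL hb)) (inv_mem (hBL ha))) (inv_mem (hBL hb))) ?_
    have h2 := comm_of_sq' hA (hrA ha) (hrA hb)
    have e : (⟨a * b * a⁻¹ * b⁻¹, mul_mem (mul_mem (mul_mem (hBL ha) (hBL hb)) (inv_mem (hBL ha)))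
        (inv_mem (hBL hb))⟩ : LL (S : Subgroup G)) = ⟨a, hBL ha⟩ * ⟨b, hBL hb⟩ * ⟨a, hBL ha⟩⁻¹ * ⟨b, hBL hb⟩⁻¹ := rfl
    rw [e, map_mul, map_mul, map_mul, map_inv, map_inv, h2, mul_inv_cancel_right, mul_inv_cancel]
  · intro h2
    apply hA1
    rw [← hBm, eq_bot_iff]
    rintro _ ⟨x, hx, rfl⟩
    rw [mem_bot]
    exact hr.r_eq_one.2 fun v hv => (mem_centralizer_iff.1 (h2 (mem_subgroupOf.1 hx)) v hv).symm

theorem nff_of_abs [Finite H] (hr : Rep (LL (S : Subgroup G)) (vv (S : Subgroup G)) r ρ ι)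
    (hN : EmpC.NFF ρ) : NFF (vv (S : Subgroup G)) := by
  intro A hAL hsq _ hnc
  have hA : A ≤ LL (S : Subgroup G) := hAL
  have h1 := hN ((A.subgroupOf (LL (S : Subgroup G))).map r) ?_ ?_
  · rw [card_eq hr hA, card_CS hr hA, card_vv hr]
    have h2 : Nat.card (CS ρ ((A.subgroupOf (LL (S : Subgroup G))).map r)) *
        (CS ρ ((A.subgroupOf (LL (S : Subgroup G))).map r)).index = Nat.card W := card_mul_index _
    have h3 : 0 < Nat.card (CS ρ ((A.subgroupOf (LL (S : Subgroup G))).map r)) *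
        Nat.card (A ⊓ centralizer (vv (S : Subgroup G) : Set G) : Subgroup G) := by
      have hW : Finite W := Finite.of_injective ι hr.iinj
      exact Nat.mul_pos Nat.card_pos Nat.card_pos
    rw [← h2]
    calc _ = Nat.card ((A.subgroupOf (LL (S : Subgroup G))).map r) *
          (Nat.card (CS ρ ((A.subgroupOf (LL (S : Subgroup G))).map r)) *
            Nat.card (A ⊓ centralizer (vv (S : Subgroup G) : Set G) : Subgroup G)) := by ring
      _ < (CS ρ ((A.subgroupOf (LL (S : Subgroup G))).map r)).index *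
          (Nat.card (CS ρ ((A.subgroupOf (LL (S : Subgroup G))).map r)) *
            Nat.card (A ⊓ centralizer (vv (S : Subgroup G) : Set G) : Subgroup G)) :=
        Nat.mul_lt_mul_of_pos_right h1 h3
      _ = _ := by ring
  · rintro _ ⟨x, hx, rfl⟩
    rw [← map_mul]
    have h2 := hsq x (mem_subgroupOf.1 hx)
    exact hr.r_eq_one.2 fun v hv => (mem_centralizer_iff.1 h2 v hv).symm
  · intro h0
    apply hnc
    intro a ha
    have h2 : r ⟨a, hA ha⟩ ∈ (A.subgroupOf (LL (S : Subgroup G))).map r := ⟨_, mem_subgroupOf.2 ha, rfl⟩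
    rw [h0, mem_bot] at h2
    rw [mem_centralizer_iff]
    intro v hv
    exact (hr.r_eq_one.1 h2 v hv).symm

/-- `R = V ⊓ V^g` contains no nontrivial `L`-invariant subgroup -/
theorem bad_R (c : Conf S R T) (hr : Rep (LL (S : Subgroup G)) (vv (S : Subgroup G)) r ρ ι) :
    ∀ N ≤ R.comap ι, (∀ h, ∀ v ∈ N, ρ h v ∈ N) → N = ⊥ := by
  intro N hN hNi
  by_contra hN1
  have h1 : N.map ι ≤ R := by
    rintro _ ⟨n, hn, rfl⟩
    exact hN hn
  have h2 : N.map ι ≠ ⊥ := by
    intro h0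
    apply hN1
    rw [eq_bot_iff]
    intro n hn
    have h3 : ι n ∈ N.map ι := ⟨n, hn, rfl⟩
    rw [h0, mem_bot] at h3
    exact mem_bot.2 (hr.iinj (by rw [h3, map_one]))
  have h3 : normalizer (jj (S : Subgroup G) : Set G) ≤ normalizer (N.map ι : Set G) := by
    refine Block.le_normalizer_of_forall ?_
    rintro g hg _ ⟨n, hn, rfl⟩
    refine ⟨_, hNi (r ⟨g, c.ens.normalizer_le_LL hg⟩) n hn, ?_⟩
    rw [hr.act]
  have h4 := (c.ens.good_of_normal (h1.trans c.R_le_vv) h2 h3).mono h1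
  obtain ⟨g, hg, hgc⟩ := c.ex
  rw [hg] at h4
  refine not_good_inf (g := g) (fun h0 => hgc ?_) h4
  rw [h0]
  intro x hx
  rw [mem_centralizer_iff]
  intro y hy
  exact vv_comm hy hx

/-- **the configuration of CLAIM C** -/
theorem Par.cfg [Finite H] (p : Par S R T P) (w : Wit S P k)
    (hr : Rep (LL (S : Subgroup G)) (vv (S : Subgroup G)) r ρ ι) :
    ∃ c d, EmpC.Cfg ρ (((ee (S : Subgroup G) P k).subgroupOf (LL (S : Subgroup G))).map r) (R.comap ι)
      ((dd (S : Subgroup G) P).comap ι) c d := by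
  have hf : Fact (Nat.Prime 2) := ⟨Nat.prime_two⟩
  have hW : Finite W := Finite.of_injective ι hr.iinj
  have heL : ee (S : Subgroup G) P k ≤ LL (S : Subgroup G) := inf_le_right.trans p.o2_le_LL
  have hRD := p.R_le_dd
  have hRE := p.R_le_ee w.mem
  obtain ⟨v₀, hv₀, hv₀Q⟩ := p.exists_notMem
  have hker : ee (S : Subgroup G) P k ⊓ centralizer (vv (S : Subgroup G) : Set G) = R := by
    apply le_antisymm
    · rintro x ⟨hx, hxc⟩
      refine p.mem_R_of_comm w hv₀ hv₀Q hx ?_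
      rw [← mem_centralizer_iff.1 hxc v₀ hv₀, mul_inv_cancel_right, mul_inv_cancel]
      exact one_mem _
    · refine le_inf hRE ?_
      intro x hx
      rw [mem_centralizer_iff]
      intro y hy
      exact vv_comm hy (p.toConf.R_le_vv hx)
  have hcE : Nat.card (((ee (S : Subgroup G) P k).subgroupOf (LL (S : Subgroup G))).map r) =
      R.relIndex (dd (S : Subgroup G) P) := by
    have h1 := card_eq hr heL
    rw [hker, p.card_ee w.mem] at h1
    have h2 : Nat.card R * R.relIndex (dd (S : Subgroup G) P) = Nat.card (dd (S : Subgroup G) P) := by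
      rw [← relIndex_bot_left, ← relIndex_bot_left (dd (S : Subgroup G) P)]
      exact relIndex_mul_relIndex _ _ _ bot_le hRD
    rw [← h2, mul_comm] at h1
    exact (Nat.eq_of_mul_eq_mul_right Nat.card_pos h1).symm
  have hsqE : ∀ a ∈ ((ee (S : Subgroup G) P k).subgroupOf (LL (S : Subgroup G))).map r, a * a = 1 := by
    rintro _ ⟨x, hx, rfl⟩
    have h1 : x * x = 1 := Subtype.ext (p.sq_cj (mem_subgroupOf.1 hx).1)
    rw [← map_mul, h1, map_one]
  obtain ⟨c, hc⟩ : ∃ c, Nat.card (((ee (S : Subgroup G) P k).subgroupOf (LL (S : Subgroup G))).map r) = 2 ^ c := by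
    refine (IsPGroup.iff_card (p := 2)).1 ?_
    rintro ⟨x, hx⟩
    exact ⟨1, Subtype.ext (by rw [pow_one, pow_two]; exact hsqE x hx)⟩
  have h2c : 2 ≤ c := by
    by_contra hlt
    have h3 : c = 0 ∨ c = 1 := by omega
    rw [hcE] at hc
    rcases h3 with rfl | rfl
    · rw [pow_zero, relIndex_eq_one] at hc
      exact p.R_ne_dd (le_antisymm hRD hc)
    · rw [pow_one] at hc
      exact p.relIndex_ne_two w hc
  have hWp : IsPGroup 2 W := by
    intro x
    refine ⟨1, hr.iinj ?_⟩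
    rw [pow_one, pow_two, map_mul, map_one]
    exact vv_mul_self (hr.mem x)
  obtain ⟨d, hd⟩ : ∃ d, ((dd (S : Subgroup G) P).comap ι).index = 2 ^ d := hWp.index _
  have hd1 : 1 ≤ d := by
    by_contra hlt
    have h3 : d = 0 := by omega
    rw [h3, pow_zero, index_eq_one] at hd
    obtain ⟨v, rfl⟩ := hr.exists_v hv₀
    have h4 : v ∈ (dd (S : Subgroup G) P).comap ι := by rw [hd]; exact mem_top v
    exact hv₀Q h4.2
  have hact : ∀ (x : LL (S : Subgroup G)) (v : W), ι (ρ (r x) v * v⁻¹) = x * ι v * (x : G)⁻¹ * (ι v)⁻¹ := by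
    intro x v
    rw [map_mul, map_inv, hr.act]
  refine ⟨c, d, ?_⟩
  refine ⟨hsqE, hc, h2c, comap_mono hRD, hd, hd1, ?_, bad_R p.toConf hr, ?_, ?_, ?_, ?_⟩
  · intro v hv
    rw [mem_CS_iff hr heL, mem_centralizer_iff]
    intro e he
    exact p.comm (ChoiceSit.o2_le _ he.2) hv
  · rintro v - _ ⟨x, hx, rfl⟩
    show ι _ ∈ dd (S : Subgroup G) P
    rw [hact]
    exact p.comm_mem_dd (hr.mem v) (mem_subgroupOf.1 hx).2
  · rintro v hv _ ⟨x, hx, rfl⟩ h1
    have h2 : ι (ρ (r x) v * v⁻¹) ∈ R := h1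
    rw [hact] at h2
    have h3 := p.mem_R_of_comm w (hr.mem v) (fun h0 => hv (mem_inf.2 ⟨hr.mem v, h0⟩)) (mem_subgroupOf.1 hx) h2
    rw [hr.r_eq_one]
    intro y hy
    exact vv_comm (p.toConf.R_le_vv h3) hy
  · intro v hv u hu
    obtain ⟨a, ha, s, hs, hsu⟩ := p.exists_comm w (hr.mem v) (fun h0 => hv (mem_inf.2 ⟨hr.mem v, h0⟩))
      (show ι u ∈ dd (S : Subgroup G) P from hu)
    obtain ⟨s, rfl⟩ := hr.exists_v (p.toConf.R_le_vv hs)
    refine ⟨r ⟨a, heL ha⟩, ⟨_, mem_subgroupOf.2 ha, rfl⟩, s, hs, hr.iinj ?_⟩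
    rw [map_mul, hact, hsu]
  · rintro v hv _ ⟨x, hx, rfl⟩
    show ι _ ∈ R
    rw [hact]
    exact p.comm_mem_R w hv (mem_subgroupOf.1 hx)

end Rep

/-- `ENS`, `KS`: the simple subgroups of `H` -/
theorem kzero_of_rep {H : Type u} [Group H] (h : ENS S) (hK : KS G) {r : LL (S : Subgroup G) →* H}
    (hs : Function.Surjective r) (J : Subgroup H) (hJ : IsSimpleGroup J) (hab : ∃ x y : J, x * y ≠ y * x) :
    KZero J := by
  obtain ⟨A, hA⟩ : ∃ A : Subgroup G, A = (J.comap r).map (LL (S : Subgroup G)).subtype := ⟨_, rfl⟩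
  have hAL : A ≤ LL (S : Subgroup G) := hA ▸ map_subtype_le _
  have hAJ : ∀ a : A, r ⟨a, hAL a.2⟩ ∈ J := by
    rintro ⟨a, ha⟩
    have h1 := ha
    rw [hA] at h1
    obtain ⟨x, hx, rfl⟩ := h1
    exact hx
  let φ : A →* J := (r.comp (inclusion hAL)).codRestrict J hAJ
  refine hK.of_surj (A := A) (fun h0 => LL_ne_top h (top_le_iff.1 (h0 ▸ hAL))) hJ hab φ ?_
  rintro ⟨j, hj⟩
  obtain ⟨x, rfl⟩ := hs j
  have hxA : (x : G) ∈ A := by rw [hA]; exact ⟨x, hj, rfl⟩
  exact ⟨⟨x, hxA⟩, rfl⟩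

theorem oddCyc_surj {A B : Type*} [Group A] [Group B] [Finite A] (f : A →* B) (hf : Function.Surjective f)
    (hc : OddCyc A) : OddCyc B := by
  intro p P hp h2
  have : Fact p.Prime := ⟨hp⟩
  obtain ⟨Q, rfl⟩ := Sylow.mapSurjective_surjective hf p P
  have hQ := hc p Q hp h2
  have h1 : Function.Surjective (f.subgroupMap (Q : Subgroup A)) := f.subgroupMap_surjective _
  exact isCyclic_of_surjective (f.subgroupMap (Q : Subgroup A)) h1

/-- **the group induced by `L` on `V`** -/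
theorem exists_act (h : ENS S) (hK : KS G) (hN : NFF (vv (S : Subgroup G))) :
    ∃ (H W : Type u) (_ : Group H) (_ : CommGroup W) (_ : Finite H) (_ : Finite W)
      (r : LL (S : Subgroup G) →* H) (ρ : H →* MulAut W) (ι : W →* G) (TH : Sylow 2 H),
      Rep (LL (S : Subgroup G)) (vv (S : Subgroup G)) r ρ ι ∧ (∀ w : W, w * w = 1) ∧
      (TH : Subgroup H) = ((S : Subgroup G).subgroupOf (LL (S : Subgroup G))).map r ∧
      OddCyc H ∧ (∀ J : Subgroup H, IsSimpleGroup J → (∃ x y : J, x * y ≠ y * x) → KZero J) ∧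
      pCore 2 H = ⊥ ∧ EmpC.NFF ρ ∧ EmpC.Bad ρ TH := by
  have hf : Fact (Nat.Prime 2) := ⟨Nat.prime_two⟩
  obtain ⟨H, W, i1, i2, i3, i4, r, ρ, ι, hr, hsq⟩ := exists_rep S
  obtain ⟨TH, hTH⟩ : ∃ TH : Sylow 2 H, (TH : Subgroup H) = ((S : Subgroup G).subgroupOf (LL (S : Subgroup G))).map r :=
    ⟨(S.subtype h.le_LL).mapSurjective hr.surj, by rw [Sylow.coe_mapSurjective, Sylow.coe_subtype]⟩
  exact ⟨H, W, i1, i2, i3, i4, r, ρ, ι, TH, hr, hsq, hTH,
    oddCyc_surj r hr.surj (CompBasic.oddCyc_subgroup h.hyp.cyc _),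
    kzero_of_rep h hK hr.surj, core_of_rep h hr, nff_of_rep hr hN, bad_of_rep h hr hTH⟩

end Cfsg.Agent.OddCyclic.EmpA
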