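import Mathlib
import Cfsg.Agent.OddCyclic.EmpA.Act
import Cfsg.Agent.Involutions.BaerSuzuki

/-!
# (Empty), section 3.1: the group `P/O₂(P)`

* `Par.exists_quot`: `H = P/O₂(P)`, `π : P →* H`, `TH = π(T)`, `A = π(V)`;
* `Quot.min`: for minimal `P`: `A ≤ O₂(X)` for each proper overgroup `X` of `TH`;
* `Quot.wit`: a witness in `H` gives `Wit S P k`;
* `Par.exists_wit_of_two`: `|V : V ⊓ O₂(P)| = 2` gives a witness (Baer-Suzuki), `P` arbitrary;
* `exists_min`: minimal `P`.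
-/

set_option autoImplicit false
set_option linter.unusedSectionVars false

namespace Cfsg.Agent.OddCyclic.EmpA

open Subgroup Cfsg Cfsg.Agent.ZN Cfsg.Agent.ZN.ChoiceBase Cfsg.Agent.ZN.ChoiceSit
open Cfsg.Agent.MinSimple Cfsg.Agent.MinSimple.EmptyTI Cfsg.Agent.MinSimple.EmptySix
open Cfsg.Agent.MinSimple.EmptyE.Closed (LL CC vv_comm vv_sq vv_mul_self vv_inv
  isPGroup_vv vv_le_jj vv_le jj_le_centralizer_vv conj_mem_vv cj_vv)
open Cfsg.Agent.OddCyclic.EmpFrame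
open Cfsg.Agent.OddCyclic.T1Defs (OddCyc)
open Cfsg.Agent.OddCyclic.PumpMain (KZero)
open Cfsg.Agent.OddCyclic.KZeroCongr (KS)

universe u

variable {G : Type u} [Group G] [Finite G] {S : Sylow 2 G} {R T P : Subgroup G} {k : G}

/-- nonabelian simple subgroups of images of proper subgroups -/
theorem kzero_of_surj {H : Type u} [Group H] (hK : KS G) {X : Subgroup G} (hX : X ≠ ⊤) {r : X →* H}
    (hs : Function.Surjective r) (J : Subgroup H) (hJ : IsSimpleGroup J) (hab : ∃ x y : J, x * y ≠ y * x) :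
    KZero J := by
  obtain ⟨A, hA⟩ : ∃ A : Subgroup G, A = (J.comap r).map X.subtype := ⟨_, rfl⟩
  have hAL : A ≤ X := hA ▸ map_subtype_le _
  have hAJ : ∀ a : A, r ⟨a, hAL a.2⟩ ∈ J := by
    rintro ⟨a, ha⟩
    have h1 := ha
    rw [hA] at h1
    obtain ⟨x, hx, rfl⟩ := h1
    exact hx
  let φ : A →* J := (r.comp (inclusion hAL)).codRestrict J hAJ
  refine hK.of_surj (A := A) (fun h0 => hX (top_le_iff.1 (h0 ▸ hAL))) hJ hab φ ?_
  rintro ⟨j, hj⟩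
  obtain ⟨x, rfl⟩ := hs j
  have hxA : (x : G) ∈ A := by rw [hA]; exact ⟨x, hj, rfl⟩
  exact ⟨⟨x, hxA⟩, rfl⟩

theorem Conf.centralizer_ne_top (c : Conf S R T) : centralizer (R : Set G) ≠ ⊤ := by
  intro h0
  have h1 : normalizer (R : Set G) = ⊤ := top_le_iff.1 (h0 ▸ centralizer_le_normalizer _)
  obtain ⟨X, -, -, hX⟩ := c.ens.nu (normalizer (R : Set G))
    (ENS.isTwoLocal_normalizer c.R_le_zj c.ne) (by rw [h1]; exact le_top)
  rw [h1] at hX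
  exact hX le_top

theorem Par.ne_top (p : Par S R T P) : P ≠ ⊤ := fun h0 =>
  p.toConf.centralizer_ne_top (top_le_iff.1 (h0 ▸ p.leX))

/-- `H = P/O₂(P)`, `TH = π(T)`, `A = π(V)` -/
structure Quot (S : Sylow 2 G) (R T P : Subgroup G) {H : Type u} [Group H] (π : P →* H) (TH : Sylow 2 H)
    (A : Subgroup H) : Prop where
  par : Par S R T P
  surj : Function.Surjective π
  ker : ∀ x : P, π x = 1 ↔ (x : G) ∈ o2 P
  TH_eq : (TH : Subgroup H) = (T.subgroupOf P).map π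
  A_eq : A = ((vv (S : Subgroup G)).subgroupOf P).map π
  cyc : OddCyc H
  kz : KS G → ∀ J : Subgroup H, IsSimpleGroup J → (∃ x y : J, x * y ≠ y * x) → KZero J
  core : pCore 2 H = ⊥
  le : A ≤ TH
  norm : (TH : Subgroup H) ≤ normalizer (A : Set H)
  sq : ∀ a ∈ A, a * a = 1
  ne : A ≠ ⊥
  card : Nat.card A = (dd (S : Subgroup G) P).relIndex (vv (S : Subgroup G))

theorem Par.exists_quot (p : Par S R T P) : ∃ (H : Type u) (_ : Group H) (_ : Finite H) (π : P →* H)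
    (TH : Sylow 2 H) (A : Subgroup H), Quot S R T P π TH A := by
  have hf : Fact (Nat.Prime 2) := ⟨Nat.prime_two⟩
  have hQ : (pCore 2 P).Normal := Lib.Cores.pCore_normal 2
  obtain ⟨T₀, hT₀⟩ : ∃ T₀ : Sylow 2 P, (T₀ : Subgroup P) = T.subgroupOf P := by
    obtain ⟨T₀, hT₀⟩ := syl_iff.1 p.sylP
    refine ⟨T₀, ?_⟩
    rw [← hT₀, subgroupOf, comap_map_eq_self_of_injective P.subtype_injective]
  have hπs : Function.Surjective (QuotientGroup.mk' (pCore 2 P)) := QuotientGroup.mk'_surjective _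
  have hker : ∀ x : P, (QuotientGroup.mk' (pCore 2 P)) x = 1 ↔ (x : G) ∈ o2 P := by
    intro x
    rw [← MonoidHom.mem_ker, QuotientGroup.ker_mk']
    constructor
    · intro h; exact ⟨x, h, rfl⟩
    · rintro ⟨y, hy, e⟩
      rwa [← Subtype.ext (show (y : G) = x from e)]
  obtain ⟨π, hπ⟩ : ∃ π : P →* P ⧸ pCore 2 P, π = QuotientGroup.mk' (pCore 2 P) := ⟨_, rfl⟩
  rw [← hπ] at hπs hker
  refine ⟨P ⧸ pCore 2 P, inferInstance, inferInstance, π, T₀.mapSurjective hπs,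
    ((vv (S : Subgroup G)).subgroupOf P).map π, ?_⟩
  have hTH : ((T₀.mapSurjective hπs : Sylow 2 (P ⧸ pCore 2 P)) : Subgroup (P ⧸ pCore 2 P)) = (T.subgroupOf P).map π := by
    rw [Sylow.coe_mapSurjective, hT₀]
  refine ⟨p, hπs, hker, hTH, rfl, oddCyc_surj π hπs (CompBasic.oddCyc_subgroup p.ens.hyp.cyc _),
    fun hK => kzero_of_surj hK p.ne_top hπs, Lib.Cores.pCore_quotient_pCore 2, ?_, ?_, ?_, ?_, ?_⟩
  · rw [hTH]
    exact map_mono (comap_mono p.toConf.vv_le_T)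
  · rw [hTH]
    refine Block.le_normalizer_of_forall ?_
    rintro _ ⟨t, ht, rfl⟩ _ ⟨v, hv, rfl⟩
    refine ⟨t * v * t⁻¹, ?_, by rw [map_mul, map_mul, map_inv]⟩
    exact (mem_normalizer_iff.1 (p.toConf.T_le_LL ht) _).1 hv
  · rintro _ ⟨v, hv, rfl⟩
    have h1 : v * v = 1 := Subtype.ext (vv_mul_self hv)
    rw [← map_mul, h1, map_one]
  · intro h0
    apply p.not
    intro v hv
    have h1 : π ⟨v, p.vv_le hv⟩ ∈ ((vv (S : Subgroup G)).subgroupOf P).map π := ⟨_, mem_subgroupOf.2 hv, rfl⟩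
    rw [h0, mem_bot] at h1
    exact (hker _).1 h1
  · let f : vv (S : Subgroup G) →* P ⧸ pCore 2 P := π.comp (inclusion p.vv_le)
    have h1 : f.range = ((vv (S : Subgroup G)).subgroupOf P).map π := by
      ext x
      constructor
      · rintro ⟨a, rfl⟩
        exact ⟨inclusion p.vv_le a, mem_subgroupOf.2 a.2, rfl⟩
      · rintro ⟨a, ha, rfl⟩
        exact ⟨⟨a, mem_subgroupOf.1 ha⟩, rfl⟩
    have h2 : f.ker = (dd (S : Subgroup G) P).subgroupOf (vv (S : Subgroup G)) := by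
      ext x
      rw [mem_subgroupOf]
      constructor
      · intro hx
        exact mem_inf.2 ⟨x.2, (hker _).1 hx⟩
      · intro hx
        exact (hker _).2 hx.2
    rw [← h1, ← index_ker, h2]
    rfl

theorem mem_zpowers_of_sq {H : Type*} [Group H] {a b : H} (haa : a * a = 1) (hb : b ∈ zpowers a) :
    b = 1 ∨ b = a := by
  obtain ⟨n, rfl⟩ := hb
  rcases Int.even_or_odd' n with ⟨m, rfl | rfl⟩
  · left
    show a ^ (2 * m) = 1
    rw [zpow_mul, zpow_ofNat, pow_two, haa, one_zpow]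
  · right
    show a ^ (2 * m + 1) = a
    rw [zpow_add, zpow_mul, zpow_ofNat, pow_two, haa, one_zpow, one_mul, zpow_one]

namespace Quot

variable {H : Type u} [Group H] {π : P →* H} {TH : Sylow 2 H} {A : Subgroup H}

theorem mem_A (q : Quot S R T P π TH A) {v : G} (hv : v ∈ vv (S : Subgroup G)) : π ⟨v, q.par.vv_le hv⟩ ∈ A :=
  q.A_eq.ge ⟨_, mem_subgroupOf.2 hv, rfl⟩

theorem exists_of_mem (q : Quot S R T P π TH A) {a : H} (ha : a ∈ A) :
    ∃ (v : G) (hv : v ∈ vv (S : Subgroup G)), π ⟨v, q.par.vv_le hv⟩ = a := by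
  rw [q.A_eq] at ha
  obtain ⟨v, hv, rfl⟩ := ha
  exact ⟨v, hv, rfl⟩

/-- a witness in `P/O₂(P)` gives a witness -/
theorem wit (q : Quot S R T P π TH A) {l : H}
    (hl : ∀ a ∈ A, a ≠ 1 → ∃ x ∈ A, ∃ y ∈ A, ¬ Commute (l * x * l⁻¹) (a * (l * y * l⁻¹) * a⁻¹)) :
    ∃ k, Wit S P k := by
  obtain ⟨k, rfl⟩ := q.surj l
  refine ⟨k, k.2, fun v hv hvQ hc => ?_⟩
  obtain ⟨x, hx, y, hy, hxy⟩ := hl _ (q.mem_A hv) (fun h0 => hvQ ((q.ker _).1 h0))
  obtain ⟨x, hxV, rfl⟩ := q.exists_of_mem hx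
  obtain ⟨y, hyV, rfl⟩ := q.exists_of_mem hy
  apply hxy
  have h1 : (k : G) * x * (k : G)⁻¹ ∈ cj (k : G) (vv (S : Subgroup G)) := ⟨x, hxV, rfl⟩
  have h2 : (v * k) * y * (v * (k : G))⁻¹ ∈ cj (v * (k : G)) (vv (S : Subgroup G)) := ⟨y, hyV, rfl⟩
  have h3 := mem_centralizer_iff.1 (hc h2) _ h1
  obtain ⟨x', hx'⟩ : ∃ x' : P, x' = ⟨x, q.par.vv_le hxV⟩ := ⟨_, rfl⟩
  obtain ⟨y', hy'⟩ : ∃ y' : P, y' = ⟨y, q.par.vv_le hyV⟩ := ⟨_, rfl⟩
  obtain ⟨v', hv'⟩ : ∃ v' : P, v' = ⟨v, q.par.vv_le hv⟩ := ⟨_, rfl⟩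
  have h4 : (k * x' * k⁻¹) * (v' * (k * y' * k⁻¹) * v'⁻¹) = (v' * (k * y' * k⁻¹) * v'⁻¹) * (k * x' * k⁻¹) := by
    apply Subtype.ext
    have e : (v * k) * y * (v * (k : G))⁻¹ = v * (k * y * (k : G)⁻¹) * v⁻¹ := by group
    rw [e] at h3
    rw [hx', hy', hv']
    exact h3
  have h5 := congrArg π h4
  simp only [map_mul, map_inv] at h5
  rw [← hx', ← hy', ← hv']
  exact h5

/-- minimality -/
theorem min (q : Quot S R T P π TH A)
    (hm : ∀ Y : Subgroup G, T ≤ Y → Y ≤ P → ¬ vv (S : Subgroup G) ≤ o2 Y → Y = P) {X : Subgroup H}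
    (hX : (TH : Subgroup H) ≤ X) (hXt : X ≠ ⊤) : A ≤ o2 X := by
  obtain ⟨Y, hY⟩ : ∃ Y : Subgroup G, Y = (X.comap π).map P.subtype := ⟨_, rfl⟩
  have hYP : Y ≤ P := hY ▸ map_subtype_le _
  have hYX : ∀ {y : G} (hy : y ∈ Y), π ⟨y, hYP hy⟩ ∈ X := by
    intro y hy
    have h1 := hy
    rw [hY] at h1
    obtain ⟨z, hz, rfl⟩ := h1
    exact hz
  have hXY : ∀ {y : G} (hy : y ∈ P), π ⟨y, hy⟩ ∈ X → y ∈ Y := by
    intro y hy h1
    rw [hY]
    exact ⟨⟨y, hy⟩, h1, rfl⟩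
  have hTY : T ≤ Y := by
    intro t ht
    refine hXY (q.par.le ht) (hX ?_)
    rw [q.TH_eq]
    exact ⟨_, mem_subgroupOf.2 ht, rfl⟩
  have hV : vv (S : Subgroup G) ≤ o2 Y := by
    by_contra hcon
    have h1 := hm Y hTY hYP hcon
    apply hXt
    rw [eq_top_iff]
    intro x _
    obtain ⟨y, rfl⟩ := q.surj x
    exact hYX (h1.ge y.2)
  have h1 : ((o2 Y).subgroupOf P).map π ≤ o2 X := by
    have h2 : IsPGroup 2 (((o2 Y).subgroupOf P).map π) :=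
      ((Block.o2_isPGroup Y).comap_subtype (K := P)).map π
    refine Block.le_o2 h2 ?_ ?_
    · rintro _ ⟨y, hy, rfl⟩
      exact hYX (ChoiceSit.o2_le _ (mem_subgroupOf.1 hy))
    · refine Block.le_normalizer_of_forall ?_
      rintro x hx _ ⟨y, hy, rfl⟩
      obtain ⟨z, rfl⟩ := q.surj x
      refine ⟨z * y * z⁻¹, ?_, by rw [map_mul, map_mul, map_inv]⟩
      have h3 : (z : G) ∈ Y := hXY z.2 hx
      exact (mem_normalizer_iff.1 (Block.le_normalizer_o2 Y h3) _).1 hy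
  refine le_trans ?_ h1
  rw [q.A_eq]
  exact map_mono (comap_mono hV)

/-- Baer-Suzuki -/
theorem exists_wit_of_two [Finite H] (q : Quot S R T P π TH A) (h2 : Nat.card A = 2) : ∃ k, Wit S P k := by
  have hf : Fact (Nat.Prime 2) := ⟨Nat.prime_two⟩
  obtain ⟨t, ht, ht1⟩ := (A.bot_or_exists_ne_one).resolve_left q.ne
  have hA : ∀ a ∈ A, a ≠ 1 → a = t := by
    intro a ha ha1
    have hz : zpowers t = A := by
      refine eq_of_le_of_card_ge (zpowers_le.2 ht) ?_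
      rw [h2, Nat.card_zpowers, orderOf_eq_prime (p := 2) (by rw [pow_two]; exact q.sq t ht) ht1]
    rw [← hz] at ha
    exact (mem_zpowers_of_sq (q.sq t ht) ha).resolve_left ha1
  have htt := q.sq t ht
  have hti : t⁻¹ = t := inv_eq_of_mul_eq_one_left htt
  obtain ⟨l, hl1, hlo, hlt⟩ := Involutions.BaerSuzuki.exists_odd_inverted t htt (by
    intro h3
    have h4 : (Subgroup.normalClosure {t} : Subgroup H) ≤ pCore 2 H := by
      rw [Lib.Cores.pCore_def]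
      exact le_sSup ⟨normalClosure_normal, h3⟩
    rw [q.core, le_bot_iff] at h4
    exact ht1 (mem_bot.1 (h4 ▸ subset_normalClosure rfl)))
  refine q.wit (l := l) ?_
  intro a ha ha1
  rw [hA a ha ha1]
  refine ⟨t, ht, t, ht, fun hc => hl1 ?_⟩
  -- `l t l⁻¹ = t l⁻²`
  have e1 : l * t * l⁻¹ = t * (l⁻¹ * l⁻¹) := by
    have h5 : t * l = l⁻¹ * t := by rw [← hlt]; group
    have h6 : l * t = t * l⁻¹ := by
      calc l * t = l * (t * l) * l⁻¹ := by group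
        _ = l * (l⁻¹ * t) * l⁻¹ := by rw [h5]
        _ = t * l⁻¹ := by group
    rw [h6]; group
  have h5 : t * l⁻¹ * t⁻¹ = l := by
    have h6 := congrArg (·⁻¹) hlt
    simp only [mul_inv_rev, inv_inv] at h6
    rw [mul_assoc]
    exact h6
  have e2 : t * (l * t * l⁻¹) * t⁻¹ = t * (l * l) := by
    rw [e1]
    calc t * (t * (l⁻¹ * l⁻¹)) * t⁻¹ = t * ((t * l⁻¹ * t⁻¹) * (t * l⁻¹ * t⁻¹)) := by group
      _ = t * (l * l) := by rw [h5]
  have h6 : (l * t * l⁻¹) * (t * (l * t * l⁻¹) * t⁻¹) = (t * (l * t * l⁻¹) * t⁻¹) * (l * t * l⁻¹) := hc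
  rw [e2, e1] at h6
  have h7 : t * (l⁻¹ * l⁻¹) * (t * (l * l)) = l ^ 4 := by
    calc t * (l⁻¹ * l⁻¹) * (t * (l * l)) = (t * l⁻¹ * t⁻¹) * (t * l⁻¹ * t⁻¹) * (t * t) * (l * l) := by group
      _ = l * l * (l * l) := by rw [h5, htt, mul_one]
      _ = l ^ 4 := by rw [show (4 : ℕ) = 2 + 2 from rfl, pow_add, pow_two]
  have h8 : t * (l * l) * (t * (l⁻¹ * l⁻¹)) = (l ^ 4)⁻¹ := by
    calc t * (l * l) * (t * (l⁻¹ * l⁻¹)) = (t * l * t⁻¹) * (t * l * t⁻¹) * (t * t) * (l⁻¹ * l⁻¹) := by group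
      _ = l⁻¹ * l⁻¹ * (l⁻¹ * l⁻¹) := by rw [hlt, htt, mul_one]
      _ = (l ^ 4)⁻¹ := by rw [show (4 : ℕ) = 2 + 2 from rfl, pow_add, pow_two]; group
  rw [h7, h8] at h6
  have h9 : l ^ 8 = 1 := by
    have e : l ^ 8 = l ^ 4 * l ^ 4 := by rw [← pow_add]
    have e' : (l ^ 4)⁻¹ * l ^ 4 = 1 := inv_mul_cancel _
    rw [← h6] at e'
    rw [e, e']
  have h10 : orderOf l ∣ 2 ^ 3 := orderOf_dvd_of_pow_eq_one h9
  exact orderOf_eq_one_iff.1 (Nat.eq_one_of_dvd_coprimes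
    (Nat.Coprime.pow_right 3 (Nat.coprime_two_right.2 hlo)) dvd_rfl h10)

end Quot

/-- `|V : V ⊓ O₂(P)| = 2`: a witness exists -/
theorem Par.exists_wit_of_two (p : Par S R T P) (h2 : (dd (S : Subgroup G) P).relIndex (vv (S : Subgroup G)) = 2) :
    ∃ k, Wit S P k := by
  obtain ⟨H, _, _, π, TH, A, q⟩ := p.exists_quot
  exact q.exists_wit_of_two (q.card.trans h2)

/-- `P` is minimal over `T` with `V ≰ O₂(P)` -/
structure Mini (S : Sylow 2 G) (R T P : Subgroup G) : Prop extends Par S R T P where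
  min : ∀ Y : Subgroup G, T ≤ Y → Y ≤ P → ¬ vv (S : Subgroup G) ≤ o2 Y → Y = P

theorem Par.exists_mini (p : Par S R T P) : ∃ P' ≤ P, Mini S R T P' := by
  obtain ⟨P', hP', hmin⟩ := Set.exists_min_image
    {Y : Subgroup G | T ≤ Y ∧ Y ≤ P ∧ ¬ vv (S : Subgroup G) ≤ o2 Y} (fun Y => Nat.card Y) (Set.toFinite _)
    ⟨P, p.le, le_rfl, p.not⟩
  obtain ⟨h1, h2, h3⟩ := hP'
  refine ⟨P', h2, ⟨⟨p.toConf, h1, h2.trans p.leX, h3⟩, fun Y hTY hYP hY => ?_⟩⟩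
  exact Subgroup.eq_of_le_of_card_ge hYP (hmin Y ⟨hTY, hYP.trans h2, hY⟩)

end Cfsg.Agent.OddCyclic.EmpA
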