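import Mathlib
import Cfsg.Agent.OddCyclic.EmpA.Quot
import Cfsg.Agent.OddCyclic.EmpTypesEnd

/-!
# (Empty), section 3.1: types of the minimal `P`

* `Mini.minA`: `P/O₂(P)` satisfies `EmpTypes.MinA`;
* `Mini.types`: `|V : V ⊓ O₂(P)| = 2`, or `P/O₂(P) = K π(T)`, `C(K) = 1`, `π(V) ≤ K`, `K ≅ SL₂(2^f)`, `Sz(q)`;
* `Mini.exists_wit`: a witness exists.
-/

set_option autoImplicit false
set_option linter.unusedSectionVars false

namespace Cfsg.Agent.OddCyclic.EmpA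

open Subgroup Cfsg Cfsg.Agent.ZN Cfsg.Agent.ZN.ChoiceBase Cfsg.Agent.ZN.ChoiceSit
open Cfsg.Agent.MinSimple Cfsg.Agent.MinSimple.EmptyTI Cfsg.Agent.MinSimple.EmptySix
open Cfsg.Agent.OddCyclic.EmpFrame
open Cfsg.Agent.OddCyclic.KZeroCongr (KS)

universe u

variable {G : Type u} [Group G] [Finite G] {S : Sylow 2 G} {R T P : Subgroup G} {k : G}

theorem Mini.minA {H : Type u} [Group H] [Finite H] {π : P →* H} {TH : Sylow 2 H} {A : Subgroup H}
    (m : Mini S R T P) (hK : KS G) (q : Quot S R T P π TH A) : EmpTypes.MinA TH A where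
  cyc := q.cyc
  kz := q.kz hK
  core := q.core
  le := q.le
  norm := q.norm
  sq := q.sq
  ne := q.ne
  min := fun _ hX hXt => q.min m.min hX hXt

theorem Mini.exists_wit (m : Mini S R T P) (hK : KS G) : ∃ k, Wit S P k := by
  obtain ⟨H, _, _, π, TH, A, q⟩ := m.toPar.exists_quot
  obtain ⟨l, hl⟩ := (m.minA hK q).exists_wit
  exact q.wit hl

theorem Mini.types (m : Mini S R T P) (hK : KS G) :
    (dd (S : Subgroup G) P).relIndex (vv (S : Subgroup G)) = 2 ∨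
    ∃ (H : Type u) (_ : Group H) (_ : Finite H) (π : P →* H) (TH : Sylow 2 H) (A K : Subgroup H),
      Quot S R T P π TH A ∧ K.Normal ∧ IsSimpleGroup K ∧ centralizer (K : Set H) = ⊥ ∧ K ⊔ (TH : Subgroup H) = ⊤ ∧
      A ≤ K ∧ ((∃ (F : Type) (_ : Field F) (_ : Fintype F) (_ : CharP F 2), 4 ≤ Fintype.card F ∧
        Nonempty (K ≃* Matrix.SpecialLinearGroup (Fin 2) F)) ∨ Cfsg.Lie.IsoSuzuki K) := by
  obtain ⟨H, _, _, π, TH, A, q⟩ := m.toPar.exists_quot
  rcases (m.minA hK q).types with h | ⟨K, h1, h2, h3, h4, h5, h6⟩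
  · exact Or.inl (q.card.symm.trans h)
  · exact Or.inr ⟨H, inferInstance, inferInstance, π, TH, A, K, q, h1, h2, h3, h4, h5, h6⟩

/-- the configuration of CLAIM C exists if (*) fails -/
theorem exists_par_wit (h : ENS S) (hK : KS G) (hN : NFF (vv (S : Subgroup G))) (hS : ¬ Star (S : Subgroup G)) :
    ∃ R T P k, Mini S R T P ∧ Wit S P k := by
  obtain ⟨R, T, c⟩ := exists_conf h hN hS
  obtain ⟨P, -, m⟩ := c.par.exists_mini
  obtain ⟨k, w⟩ := m.exists_wit hK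
  exact ⟨R, T, P, k, m, w⟩

end Cfsg.Agent.OddCyclic.EmpA
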